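import Mathlib
import Cfsg.Agent.H84.Psl3Stmt
import Cfsg.Agent.Lib.Helper38.SLCard

/-!
# S5318, piece M3a: `PSL_3(F)` and `GL_2(F)` have orders with the same `2`-part (`F` of odd
order).
-/

set_option autoImplicit false

namespace Cfsg.Agent.Lib.Helper1.Psl3M3a

open Matrix

universe u

/-- The centre of `SL_3(F)` has exponent dividing `3`. -/
theorem center_pow_three {F : Type*} [Field F] (z : SpecialLinearGroup (Fin 3) F)
    (hz : z ∈ Subgroup.center (SpecialLinearGroup (Fin 3) F)) : z ^ 3 = 1 := by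
  rw [Matrix.SpecialLinearGroup.mem_center_iff] at hz
  obtain ⟨r, hr, h⟩ := hz
  rw [Fintype.card_fin] at hr
  have h3 : (z : Matrix (Fin 3) (Fin 3) F) ^ 3 = 1 := by rw [← h, ← map_pow, hr, map_one]
  have h4 : ((z ^ 3 : SpecialLinearGroup (Fin 3) F) : Matrix (Fin 3) (Fin 3) F) =
      ((1 : SpecialLinearGroup (Fin 3) F) : Matrix (Fin 3) (Fin 3) F) :=
    (Matrix.SpecialLinearGroup.coe_pow z 3).trans
      (h3.trans Matrix.SpecialLinearGroup.coe_one.symm)
  exact Subtype.ext h4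

/-- The centre of `SL_3(F)` has odd order. -/
theorem center_card_odd {F : Type*} [Field F] [Finite F] :
    ¬ 2 ∣ Nat.card (Subgroup.center (SpecialLinearGroup (Fin 3) F)) := by
  intro h2
  have : Fact (Nat.Prime 2) := ⟨Nat.prime_two⟩
  obtain ⟨z, hz⟩ := exists_prime_orderOf_dvd_card' 2 h2
  have h3 : z ^ 3 = 1 := Subtype.ext (center_pow_three (z : SpecialLinearGroup (Fin 3) F) z.2)
  have h4 : orderOf z ∣ 3 := orderOf_dvd_of_pow_eq_one h3
  rw [hz] at h4
  omega

/-- `|PSL_3(F)| * |Z(SL_3(F))| = |GL_2(F)| * (q² (q² + q + 1))`. -/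
theorem card_identity {F : Type*} [Field F] [Fintype F] :
    Nat.card (ProjectiveSpecialLinearGroup (Fin 3) F) *
        Nat.card (Subgroup.center (SpecialLinearGroup (Fin 3) F)) =
      Nat.card (GL (Fin 2) F) *
        (Fintype.card F ^ 2 * (Fintype.card F ^ 2 + Fintype.card F + 1)) := by
  have hq : 2 ≤ Fintype.card F := Fintype.one_lt_card
  obtain ⟨a, ha⟩ : ∃ a, Fintype.card F = a + 1 := ⟨Fintype.card F - 1, by omega⟩
  have ha1 : 1 ≤ a := by omega
  have h1 : Nat.card (SpecialLinearGroup (Fin 3) F) =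
      Nat.card (ProjectiveSpecialLinearGroup (Fin 3) F) *
        Nat.card (Subgroup.center (SpecialLinearGroup (Fin 3) F)) :=
    Subgroup.card_eq_card_quotient_mul_card_subgroup _
  have h2 := Cfsg.Agent.Lib.Helper38.SLCard.card_SL_mul (F := F) 3 (by norm_num)
  rw [Matrix.card_GL_field] at h2
  have h3 : Nat.card (GL (Fin 2) F) = _ := Matrix.card_GL_field (𝔽 := F) (n := 2)
  simp only [Fin.prod_univ_three, Fin.prod_univ_two, Fin.val_zero, Fin.val_one, Fin.val_two,
    pow_zero, pow_one] at h2 h3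
  rw [ha] at h2 h3 ⊢
  have e1 : (a + 1) ^ 3 - 1 = a * ((a + 1) ^ 2 + (a + 1) + 1) := by
    apply Nat.sub_eq_of_eq_add; ring
  have e2 : (a + 1) ^ 3 - (a + 1) = (a + 1) * a * (a + 2) := by
    apply Nat.sub_eq_of_eq_add; ring
  have e3 : (a + 1) ^ 3 - (a + 1) ^ 2 = (a + 1) ^ 2 * a := by
    apply Nat.sub_eq_of_eq_add; ring
  have e4 : (a + 1) ^ 2 - 1 = a * (a + 2) := by
    apply Nat.sub_eq_of_eq_add; ring
  have e5 : (a + 1) ^ 2 - (a + 1) = (a + 1) * a := by
    apply Nat.sub_eq_of_eq_add; ring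
  have e6 : a + 1 - 1 = a := by omega
  rw [e1, e2, e3, e6] at h2
  rw [e4, e5] at h3
  rw [h3, ← h1]
  apply Nat.eq_of_mul_eq_mul_right (show 0 < a by omega)
  rw [h2]
  ring

/-- [M3a] -/
theorem main : Cfsg.Agent.H84.Psl3Stmt.CardVal.{u} := by
  intro F _ _ hodd
  have hq : 2 ≤ Fintype.card F := Fintype.one_lt_card
  have hid := card_identity (F := F)
  have hZ : ¬ 2 ∣ Nat.card (Subgroup.center (SpecialLinearGroup (Fin 3) F)) := center_card_odd
  have hodd2 : ¬ 2 ∣ Fintype.card F ^ 2 * (Fintype.card F ^ 2 + Fintype.card F + 1) := by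
    rw [Nat.two_dvd_ne_zero, Nat.mul_mod, Nat.add_mod, Nat.add_mod (Fintype.card F ^ 2),
      Nat.pow_mod, hodd]
  have hP : Nat.card (ProjectiveSpecialLinearGroup (Fin 3) F) ≠ 0 := Nat.card_pos.ne'
  have hZ0 : Nat.card (Subgroup.center (SpecialLinearGroup (Fin 3) F)) ≠ 0 := Nat.card_pos.ne'
  have hG0 : Nat.card (GL (Fin 2) F) ≠ 0 := Nat.card_pos.ne'
  have hX0 : Fintype.card F ^ 2 * (Fintype.card F ^ 2 + Fintype.card F + 1) ≠ 0 := by
    intro h
    rw [h] at hodd2
    exact hodd2 (dvd_zero 2)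
  have h : (Nat.card (ProjectiveSpecialLinearGroup (Fin 3) F) *
        Nat.card (Subgroup.center (SpecialLinearGroup (Fin 3) F))).factorization 2 =
      (Nat.card (GL (Fin 2) F) *
        (Fintype.card F ^ 2 * (Fintype.card F ^ 2 + Fintype.card F + 1))).factorization 2 := by
    rw [hid]
  rw [Nat.factorization_mul hP hZ0, Nat.factorization_mul hG0 hX0, Finsupp.add_apply,
    Finsupp.add_apply, Nat.factorization_eq_zero_of_not_dvd hZ,
    Nat.factorization_eq_zero_of_not_dvd hodd2, add_zero, add_zero] at h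
  exact h

end Cfsg.Agent.Lib.Helper1.Psl3M3a
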