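import Mathlib
import Cfsg.Agent.H84.Psl3Stmt

/-!
# S5318, piece M3c: a homomorphism `H → G` whose kernel has exponent dividing `3`, between
finite groups whose orders have the same `2`-part, identifies the Sylow `2`-subgroups up to
isomorphism.
-/

set_option autoImplicit false

namespace Cfsg.Agent.Lib.Helper1.Psl3M3c

universe u

/-- [M3c] -/
theorem main : Cfsg.Agent.H84.Psl3Stmt.SylowIso.{u} := by
  intro G H _ _ _ _ ι hker hval S
  obtain ⟨P0⟩ : Nonempty (Sylow 2 H) := inferInstance
  refine ⟨P0, ?_⟩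
  let f : ↥(P0 : Subgroup H) →* G := ι.comp (P0 : Subgroup H).subtype
  have hf : Function.Injective f := by
    rw [injective_iff_map_eq_one]
    intro x hx
    have h3 : (x : H) ^ 3 = 1 := hker (x : H) hx
    obtain ⟨k, hk⟩ := P0.2 x
    have hx3 : x ^ 3 = 1 := Subtype.ext (by simpa using h3)
    have h1 : orderOf x ∣ 3 := orderOf_dvd_of_pow_eq_one hx3
    have h2 : orderOf x ∣ 2 ^ k := orderOf_dvd_of_pow_eq_one hk
    have h4 : orderOf x ∣ Nat.gcd 3 (2 ^ k) := Nat.dvd_gcd h1 h2
    have h5 : Nat.gcd 3 (2 ^ k) = 1 := by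
      apply Nat.Coprime.pow_right
      decide
    rw [h5, Nat.dvd_one, orderOf_eq_one_iff] at h4
    exact h4
  have hcard : Nat.card f.range = 2 ^ (Nat.card G).factorization 2 := by
    rw [← Nat.card_congr (MonoidHom.ofInjective hf).toEquiv, hval]
    exact Sylow.card_eq_multiplicity P0
  let Q : Sylow 2 G := Sylow.ofCard f.range hcard
  obtain ⟨g, hg⟩ := MulAction.exists_smul_eq G Q S
  have hgS : ((g • Q : Sylow 2 G) : Subgroup G) = (S : Subgroup G) := by rw [hg]
  have hQ : (Q : Subgroup G) = f.range := Sylow.coe_ofCard f.range hcard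
  exact ⟨(MulEquiv.subgroupCongr hgS.symm).trans ((Q.equivSMul g).symm.trans
    ((MulEquiv.subgroupCongr hQ).trans (MonoidHom.ofInjective hf).symm))⟩

end Cfsg.Agent.Lib.Helper1.Psl3M3c
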