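import Mathlib

set_option autoImplicit false

/-!
# Classes of π-elements

`IsPiElt π x`: every prime divisor of the order of `x` lies in `π`.
`PiCls π G`: the conjugacy classes of `G` consisting of π-elements, `kpi π G` their number.

Main results (finite `G`):
* `exists_decomp`: a `insert r σ`-element is `u * y` with `u`, `y` commuting, `u` of order a
  power of `r` and `y` a σ-element.
* `kpi_insert_le`: `kpi (insert r σ) G ≤ kpi {r} G * B` when `kpi σ C_G(u) ≤ B` for all `u`.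
* `kpi_prime_le`: `kpi {r} G ≤ r ^ v_r(|G|)`.
* `kpi_le_piPart`: `kpi σ G ≤ ∏_{q ∈ σ} q ^ v_q(|G|)` for a finite set `σ` of primes.
* `kpi_le_mul_erase`: `kpi π G ≤ kpi {r} G * ∏_{q ∈ π \ {r}} q ^ v_q(|G|)`.
-/

namespace Cfsg.Agent.Lib.Helper1.PiClasses

universe u

section Basic

variable {G : Type u} [Group G]

/-- `x` is a π-element: all prime divisors of its order lie in `π`. -/
def IsPiElt (π : Set ℕ) (x : G) : Prop := ∀ r : ℕ, r.Prime → r ∣ orderOf x → r ∈ π

theorem orderOf_conj' (g x : G) : orderOf (g * x * g⁻¹) = orderOf x := by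
  have h1 := orderOf_injective (MulAut.conj g).toMonoidHom (MulAut.conj g).injective x
  simpa [MulAut.conj_apply] using h1

theorem isPiElt_conj {π : Set ℕ} {x : G} (g : G) (hx : IsPiElt π x) :
    IsPiElt π (g * x * g⁻¹) := by
  intro r hr hd
  rw [orderOf_conj'] at hd
  exact hx r hr hd

theorem isPiElt_mono {π τ : Set ℕ} (h : π ⊆ τ) {x : G} (hx : IsPiElt π x) : IsPiElt τ x :=
  fun r hr hd => h (hx r hr hd)

theorem isPiElt_one (π : Set ℕ) : IsPiElt π (1 : G) := by
  intro r hr hd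
  rw [orderOf_one] at hd
  exact absurd (Nat.dvd_one.mp hd) hr.one_lt.ne'

theorem isPiElt_coe {π : Set ℕ} {H : Subgroup G} {y : H} :
    IsPiElt π (y : G) ↔ IsPiElt π y := by
  unfold IsPiElt
  rw [Subgroup.orderOf_coe]

theorem isPiElt_mul {π : Set ℕ} {x y : G} (hc : Commute x y) (hx : IsPiElt π x)
    (hy : IsPiElt π y) : IsPiElt π (x * y) := by
  intro r hr hd
  have h1 := hd.trans hc.orderOf_mul_dvd_mul_orderOf
  rcases (Nat.Prime.dvd_mul hr).mp h1 with h | h
  · exact hx r hr h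
  · exact hy r hr h

theorem isPiElt_singleton_iff [Finite G] {r : ℕ} (hr : r.Prime) {x : G} :
    IsPiElt {r} x ↔ ∃ k : ℕ, orderOf x = r ^ k := by
  constructor
  · intro h
    have hpos : orderOf x ≠ 0 := (orderOf_pos x).ne'
    exact ⟨_, Nat.eq_prime_pow_of_unique_prime_dvd hpos (fun {d} hd hdd => h d hd hdd)⟩
  · rintro ⟨k, hk⟩ q hq hd
    rw [hk] at hd
    exact (Nat.prime_dvd_prime_iff_eq hq hr).mp (hq.dvd_of_dvd_pow hd)

theorem isPiElt_empty_iff [Finite G] {x : G} : IsPiElt (∅ : Set ℕ) x ↔ x = 1 := by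
  constructor
  · intro h
    by_contra hx
    have h1 : orderOf x ≠ 1 := fun h1 => hx (orderOf_eq_one_iff.mp h1)
    obtain ⟨q, hq, hqd⟩ := Nat.exists_prime_and_dvd h1
    exact h q hq hqd
  · rintro rfl
    exact isPiElt_one _

/-- decomposition of an `insert r σ`-element -/
theorem exists_decomp [Finite G] {r : ℕ} (hr : r.Prime) {σ : Set ℕ} {x : G}
    (hx : IsPiElt (insert r σ) x) :
    ∃ u y : G, Commute u y ∧ x = u * y ∧ IsPiElt {r} u ∧ IsPiElt σ y := by
  have hn : orderOf x ≠ 0 := (orderOf_pos x).ne'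
  set n := orderOf x with hndef
  set a := n.factorization r with hadef
  set m := n / r ^ a with hmdef
  have hnm : r ^ a * m = n := Nat.ordProj_mul_ordCompl_eq_self n r
  have hcop : Nat.Coprime (r ^ a) m := by
    apply Nat.Coprime.pow_left
    exact Nat.coprime_ordCompl hr hn
  -- Bezout
  have hb : (Nat.gcd (r ^ a) m : ℤ) = (r ^ a : ℕ) * Nat.gcdA (r ^ a) m + (m : ℕ) * Nat.gcdB (r ^ a) m :=
    Nat.gcd_eq_gcd_ab (r ^ a) m
  rw [hcop] at hb
  set s := Nat.gcdA (r ^ a) m
  set t := Nat.gcdB (r ^ a) m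
  refine ⟨x ^ ((m : ℤ) * t), x ^ (((r ^ a : ℕ) : ℤ) * s), ?_, ?_, ?_, ?_⟩
  · exact (Commute.refl x).zpow_zpow _ _
  · rw [← zpow_add]
    have : (m : ℤ) * t + ((r ^ a : ℕ) : ℤ) * s = 1 := by
      rw [add_comm]; exact_mod_cast hb.symm
    rw [this, zpow_one]
  · have h1 : (x ^ ((m : ℤ) * t)) ^ (r ^ a) = 1 := by
      rw [← zpow_natCast, ← zpow_mul]
      have : (m : ℤ) * t * ((r ^ a : ℕ) : ℤ) = ((n : ℕ) : ℤ) * t := by
        rw [← hnm]; push_cast; ring
      rw [this, zpow_mul, zpow_natCast, hndef, pow_orderOf_eq_one, one_zpow]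
    have h2 : orderOf (x ^ ((m : ℤ) * t)) ∣ r ^ a := orderOf_dvd_of_pow_eq_one h1
    intro q hq hqd
    have h3 := hqd.trans h2
    exact (Nat.prime_dvd_prime_iff_eq hq hr).mp (hq.dvd_of_dvd_pow h3)
  · have h1 : (x ^ (((r ^ a : ℕ) : ℤ) * s)) ^ m = 1 := by
      rw [← zpow_natCast, ← zpow_mul]
      have : ((r ^ a : ℕ) : ℤ) * s * (m : ℤ) = ((n : ℕ) : ℤ) * s := by
        rw [← hnm]; push_cast; ring
      rw [this, zpow_mul, zpow_natCast, hndef, pow_orderOf_eq_one, one_zpow]
    have h2 : orderOf (x ^ (((r ^ a : ℕ) : ℤ) * s)) ∣ m := orderOf_dvd_of_pow_eq_one h1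
    intro q hq hqd
    have h3 : q ∣ m := hqd.trans h2
    have h4 : q ∣ n := h3.trans (Dvd.intro_left _ hnm)
    rcases hx q hq h4 with h | h
    · exfalso
      subst h
      have h5 : q ∣ Nat.gcd q m := Nat.dvd_gcd dvd_rfl h3
      rw [Nat.coprime_ordCompl hr hn] at h5
      exact hr.one_lt.ne' (Nat.dvd_one.mp h5)
    · exact h

end Basic

section Classes

variable {G : Type u} [Group G]

/-- the conjugacy classes consisting of π-elements -/
def PiCls (π : Set ℕ) (G : Type u) [Group G] : Type u :=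
  {c : ConjClasses G // ∀ x ∈ c.carrier, IsPiElt π x}

/-- the number of classes of π-elements -/
noncomputable def kpi (π : Set ℕ) (G : Type u) [Group G] : ℕ := Nat.card (PiCls π G)

instance [Finite G] (π : Set ℕ) : Finite (PiCls π G) := by
  unfold PiCls; infer_instance

/-- the class of a π-element -/
def mkPi {π : Set ℕ} (x : G) (hx : IsPiElt π x) : PiCls π G :=
  ⟨ConjClasses.mk x, fun y hy => by
    rw [ConjClasses.mem_carrier_iff_mk_eq, ConjClasses.mk_eq_mk_iff_isConj, isConj_iff] at hy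
    obtain ⟨c, hc⟩ := hy
    have h1 := isPiElt_conj c⁻¹ hx
    have h2 : c⁻¹ * x * c⁻¹⁻¹ = y := by rw [← hc]; group
    rwa [h2] at h1⟩

theorem mkPi_eq_iff {π : Set ℕ} {x y : G} (hx : IsPiElt π x) (hy : IsPiElt π y) :
    mkPi x hx = mkPi y hy ↔ ∃ g : G, g * x * g⁻¹ = y := by
  constructor
  · intro h
    have h1 : ConjClasses.mk x = ConjClasses.mk y := congrArg Subtype.val h
    exact isConj_iff.mp (ConjClasses.mk_eq_mk_iff_isConj.mp h1)
  · intro h
    exact Subtype.ext (ConjClasses.mk_eq_mk_iff_isConj.mpr (isConj_iff.mpr h))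

theorem exists_rep {π : Set ℕ} (c : PiCls π G) : ∃ (x : G) (hx : IsPiElt π x), mkPi x hx = c := by
  obtain ⟨g, hg⟩ := ConjClasses.exists_rep c.1
  have hx : IsPiElt π g := c.2 g (by rw [ConjClasses.mem_carrier_iff_mk_eq]; exact hg)
  exact ⟨g, hx, Subtype.ext hg⟩

/-- the basic recursion inequality -/
theorem kpi_insert_le [Finite G] {r : ℕ} (hr : r.Prime) (σ : Set ℕ) (B : ℕ)
    (hB : ∀ u : G, kpi σ (Subgroup.centralizer ({u} : Set G)) ≤ B) :
    kpi (insert r σ) G ≤ kpi {r} G * B := by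
  classical
  choose rep hrep hrep' using (exists_rep (π := ({r} : Set ℕ)) (G := G))
  choose rep2 hrep2 hrep2' using fun (c : PiCls ({r} : Set ℕ) G) =>
    exists_rep (π := σ) (G := Subgroup.centralizer ({rep c} : Set G))
  have hcomm : ∀ (c : PiCls ({r} : Set ℕ) G)
      (z : Subgroup.centralizer ({rep c} : Set G)), Commute (rep c) (z : G) := by
    intro c z
    have := Subgroup.mem_centralizer_iff.mp z.2 (rep c) (Set.mem_singleton _)
    exact this
  let f : (Σ c : PiCls ({r} : Set ℕ) G, PiCls σ (Subgroup.centralizer ({rep c} : Set G))) →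
      PiCls (insert r σ) G := fun t =>
    mkPi (rep t.1 * (rep2 t.1 t.2 : G)) (isPiElt_mul (hcomm t.1 _)
      (isPiElt_mono (Set.singleton_subset_iff.mpr (Set.mem_insert _ _)) (hrep t.1))
      (isPiElt_mono (Set.subset_insert _ _) (isPiElt_coe.mpr (hrep2 t.1 t.2))))
  have hf : Function.Surjective f := by
    intro c'
    obtain ⟨x, hx, rfl⟩ := exists_rep c'
    obtain ⟨u, y, huy, hxe, hu, hy⟩ := exists_decomp hr hx
    subst hxe
    set c : PiCls ({r} : Set ℕ) G := mkPi u hu with hc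
    obtain ⟨g, hg⟩ := (mkPi_eq_iff hu (hrep c)).mp (hrep' c).symm
    have hmem : g * y * g⁻¹ ∈ Subgroup.centralizer ({rep c} : Set G) := by
      rw [Subgroup.mem_centralizer_iff]
      intro h hh
      rw [Set.mem_singleton_iff] at hh
      subst hh
      rw [← hg]
      have : u * y = y * u := huy
      calc g * u * g⁻¹ * (g * y * g⁻¹) = g * (u * y) * g⁻¹ := by group
        _ = g * (y * u) * g⁻¹ := by rw [this]
        _ = g * y * g⁻¹ * (g * u * g⁻¹) := by group
    have hy' : IsPiElt σ (⟨g * y * g⁻¹, hmem⟩ : Subgroup.centralizer ({rep c} : Set G)) :=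
      isPiElt_coe.mp (isPiElt_conj g hy)
    set d : PiCls σ (Subgroup.centralizer ({rep c} : Set G)) := mkPi _ hy' with hd
    obtain ⟨h, hh⟩ := (mkPi_eq_iff hy' (hrep2 c d)).mp (hrep2' c d).symm
    refine ⟨⟨c, d⟩, ?_⟩
    show mkPi (rep c * (rep2 c d : G)) _ = mkPi (u * y) hx
    rw [eq_comm, mkPi_eq_iff]
    refine ⟨(h : G) * g, ?_⟩
    have hh' : (h : G) * (g * y * g⁻¹) * (h : G)⁻¹ = (rep2 c d : G) := by
      have := congrArg (Subtype.val) hh
      simpa using this
    have hch : rep c * (h : G) = (h : G) * rep c := hcomm c h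
    rw [← hh']
    calc (h : G) * g * (u * y) * ((h : G) * g)⁻¹
        = (h : G) * (g * u * g⁻¹) * (g * y * g⁻¹) * (h : G)⁻¹ := by group
      _ = (h : G) * rep c * (g * y * g⁻¹) * (h : G)⁻¹ := by rw [hg]
      _ = rep c * (h : G) * (g * y * g⁻¹) * (h : G)⁻¹ := by rw [hch]
      _ = rep c * ((h : G) * (g * y * g⁻¹) * (h : G)⁻¹) := by group
  let _ : Fintype (PiCls ({r} : Set ℕ) G) := Fintype.ofFinite _
  calc kpi (insert r σ) G
      ≤ Nat.card (Σ c : PiCls ({r} : Set ℕ) G, PiCls σ (Subgroup.centralizer ({rep c} : Set G))) :=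
        Nat.card_le_card_of_surjective f hf
    _ = ∑ c : PiCls ({r} : Set ℕ) G, Nat.card (PiCls σ (Subgroup.centralizer ({rep c} : Set G))) :=
        Nat.card_sigma
    _ ≤ ∑ _c : PiCls ({r} : Set ℕ) G, B := Finset.sum_le_sum (fun c _ => hB (rep c))
    _ = kpi {r} G * B := by
        rw [Finset.sum_const, Finset.card_univ, smul_eq_mul, kpi, Nat.card_eq_fintype_card]

/-- every class of `r`-elements meets a Sylow `r`-subgroup -/
theorem exists_mem_sylow [Finite G] {r : ℕ} [Fact r.Prime] (P : Sylow r G)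
    (c : PiCls ({r} : Set ℕ) G) :
    ∃ (x : (P : Subgroup G)) (hx : IsPiElt ({r} : Set ℕ) (x : G)), mkPi (x : G) hx = c := by
  obtain ⟨g, hg, rfl⟩ := exists_rep c
  obtain ⟨k, hk⟩ := (isPiElt_singleton_iff (Fact.out : r.Prime)).mp hg
  have hpg : IsPGroup r (Subgroup.zpowers g) :=
    IsPGroup.of_card (by rw [Nat.card_zpowers]; exact hk)
  obtain ⟨Q, hQ⟩ := hpg.exists_le_sylow
  obtain ⟨h, hh⟩ := MulAction.exists_smul_eq G Q P
  have hgQ : g ∈ (Q : Subgroup G) := hQ (Subgroup.mem_zpowers g)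
  have hmem : h * g * h⁻¹ ∈ (P : Subgroup G) := by
    rw [← hh, Sylow.coe_subgroup_smul]
    have h1 := Subgroup.smul_mem_pointwise_smul g (MulAut.conj h) (Q : Subgroup G) hgQ
    simpa [MulAut.smul_def] using h1
  refine ⟨⟨h * g * h⁻¹, hmem⟩, isPiElt_conj h hg, ?_⟩
  rw [eq_comm, mkPi_eq_iff]
  exact ⟨h, rfl⟩

theorem kpi_prime_le [Finite G] {r : ℕ} (hr : r.Prime) :
    kpi {r} G ≤ r ^ (Nat.card G).factorization r := by
  have : Fact r.Prime := ⟨hr⟩
  obtain ⟨P⟩ : Nonempty (Sylow r G) := inferInstance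
  rw [← Sylow.card_eq_multiplicity P]
  have hP : ∀ x : (P : Subgroup G), IsPiElt ({r} : Set ℕ) (x : G) := by
    intro x
    rw [isPiElt_singleton_iff hr]
    obtain ⟨k, hk⟩ := (IsPGroup.iff_orderOf.mp P.isPGroup') x
    exact ⟨k, by rw [← hk, Subgroup.orderOf_coe]⟩
  refine Nat.card_le_card_of_surjective (fun x : (P : Subgroup G) => mkPi (x : G) (hP x)) ?_
  intro c
  obtain ⟨x, hx, hxc⟩ := exists_mem_sylow P c
  exact ⟨x, hxc⟩

theorem kpi_empty_le [Finite G] : kpi (∅ : Set ℕ) G ≤ 1 := by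
  have : Subsingleton (PiCls (∅ : Set ℕ) G) := by
    constructor
    intro a b
    obtain ⟨x, hx, rfl⟩ := exists_rep a
    obtain ⟨y, hy, rfl⟩ := exists_rep b
    have h1 := isPiElt_empty_iff.mp hx
    have h2 := isPiElt_empty_iff.mp hy
    subst h1; subst h2; rfl
  exact Finite.card_le_one_iff_subsingleton.mpr this

/-- the π-part of a natural number, for a finite set of primes -/
def piPart (σ : Finset ℕ) (n : ℕ) : ℕ := σ.prod (fun q => q ^ n.factorization q)

theorem piPart_pos (σ : Finset ℕ) (hσ : ∀ q ∈ σ, q.Prime) (n : ℕ) : 0 < piPart σ n :=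
  Finset.prod_pos (fun q hq => pow_pos (hσ q hq).pos _)

theorem piPart_le_of_dvd (σ : Finset ℕ) (hσ : ∀ q ∈ σ, q.Prime) {a b : ℕ} (ha : a ≠ 0)
    (hb : b ≠ 0) (hab : a ∣ b) : piPart σ a ≤ piPart σ b := by
  apply Finset.prod_le_prod
  · intro q _; exact Nat.zero_le _
  · intro q hq
    exact Nat.pow_le_pow_right (hσ q hq).pos ((Nat.factorization_le_iff_dvd ha hb).mpr hab q)

theorem kpi_le_piPart (σ : Finset ℕ) (hσ : ∀ q ∈ σ, q.Prime) :
    ∀ (G : Type u) [Group G] [Finite G], kpi (↑σ) G ≤ piPart σ (Nat.card G) := by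
  induction σ using Finset.induction_on with
  | empty =>
    intro G _ _
    rw [Finset.coe_empty]
    simpa [piPart] using kpi_empty_le (G := G)
  | insert r s hrs ih =>
    intro G _ _
    have hr := hσ r (Finset.mem_insert_self _ _)
    have hs : ∀ q ∈ s, q.Prime := fun q hq => hσ q (Finset.mem_insert_of_mem hq)
    rw [Finset.coe_insert]
    have hpp : piPart (insert r s) (Nat.card G)
        = r ^ (Nat.card G).factorization r * piPart s (Nat.card G) := by
      unfold piPart; rw [Finset.prod_insert hrs]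
    rw [hpp]
    refine (kpi_insert_le hr ↑s (piPart s (Nat.card G)) ?_).trans ?_
    · intro u
      refine (ih hs _).trans ?_
      exact piPart_le_of_dvd s hs Nat.card_pos.ne' Nat.card_pos.ne'
        (Subgroup.card_subgroup_dvd_card _)
    · exact Nat.mul_le_mul_right _ (kpi_prime_le hr)

theorem kpi_le_mul_erase [Finite G] (π : Finset ℕ) (hπ : ∀ q ∈ π, q.Prime) {r : ℕ}
    (hr : r ∈ π) :
    kpi (↑π) G ≤ kpi {r} G * piPart (π.erase r) (Nat.card G) := by
  have hs : ∀ q ∈ π.erase r, q.Prime := fun q hq => hπ q (Finset.mem_of_mem_erase hq)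
  have h1 : (↑π : Set ℕ) = insert r (↑(π.erase r) : Set ℕ) := by
    rw [← Finset.coe_insert, Finset.insert_erase hr]
  rw [h1]
  refine kpi_insert_le (hπ r hr) _ _ ?_
  intro u
  refine (kpi_le_piPart _ hs _).trans ?_
  exact piPart_le_of_dvd _ hs Nat.card_pos.ne' Nat.card_pos.ne'
    (Subgroup.card_subgroup_dvd_card _)

theorem piPart_eq_mul_erase (π : Finset ℕ) {r : ℕ} (hr : r ∈ π) (n : ℕ) :
    piPart π n = r ^ n.factorization r * piPart (π.erase r) n := by
  unfold piPart
  rw [Finset.mul_prod_erase π (fun q => q ^ n.factorization q) hr]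

end Classes

section Assemble

open scoped commutatorElement

variable {G : Type u} [Group G]

theorem index_inf_dvd (A B : Subgroup G) [A.Normal] : (A ⊓ B).index ∣ A.index * B.index := by
  rw [← Subgroup.relIndex_mul_index (inf_le_right : A ⊓ B ≤ B), Subgroup.inf_relIndex_right]
  exact Nat.mul_dvd_mul_right (Subgroup.relIndex_dvd_index_of_normal A B) _

theorem index_iInf_dvd (τ : Finset ℕ) (N : ℕ → Subgroup G) (hN : ∀ r ∈ τ, (N r).Normal) :
    (⨅ r ∈ τ, N r).index ∣ τ.prod (fun r => (N r).index) := by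
  induction τ using Finset.induction_on with
  | empty => simp
  | insert a s has ih =>
    rw [Finset.iInf_insert, Finset.prod_insert has]
    have : (N a).Normal := hN a (Finset.mem_insert_self _ _)
    exact (index_inf_dvd (N a) _).trans
      (Nat.mul_dvd_mul_left _ (ih (fun r hr => hN r (Finset.mem_insert_of_mem hr))))

/-- from normal subgroups `N r` (`r ∈ τ`) with abelian quotient of `r`-power order and
`r ∤ |N r|`, a normal τ-complement with abelian quotient -/
theorem assemble [Finite G] (τ : Finset ℕ) (hτ : ∀ r ∈ τ, r.Prime)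
    (h : ∀ r ∈ τ, ∃ N : Subgroup G, N.Normal ∧ commutator G ≤ N ∧ (∃ k : ℕ, N.index = r ^ k) ∧
      ¬ r ∣ Nat.card N) :
    ∃ N : Subgroup G, N.Normal ∧ commutator G ≤ N ∧
      (∀ q : ℕ, q.Prime → q ∣ Nat.card N → q ∉ τ) ∧
      (∀ q : ℕ, q.Prime → q ∣ N.index → q ∈ τ) := by
  classical
  choose! N hN1 hN2 hN3 hN4 using h
  refine ⟨⨅ r ∈ τ, N r, ?_, ?_, ?_, ?_⟩
  · exact Subgroup.normal_iInf_normal (fun r => Subgroup.normal_iInf_normal (fun hr => hN1 r hr))
  · exact le_iInf₂ (fun r hr => hN2 r hr)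
  · intro q _ hqd hqτ
    have hle : (⨅ r ∈ τ, N r) ≤ N q := iInf₂_le q hqτ
    exact hN4 q hqτ (hqd.trans (Subgroup.card_dvd_of_le hle))
  · intro q hq hqd
    have h1 := hqd.trans (index_iInf_dvd τ N hN1)
    obtain ⟨r, hr, hqr⟩ := (Prime.dvd_finsetProd_iff (Nat.Prime.prime hq) _).mp h1
    obtain ⟨k, hk⟩ := hN3 r hr
    rw [hk] at hqr
    have h2 : q ∣ r := hq.dvd_of_dvd_pow hqr
    rw [(Nat.prime_dvd_prime_iff_eq hq (hτ r hr)).mp h2]
    exact hr

/-- a normal Hall subgroup containing the commutator subgroup has an abelian complement -/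
theorem exists_abelian_compl [Finite G] (N : Subgroup G) [N.Normal] (hc : commutator G ≤ N)
    (hcop : (Nat.card N).Coprime N.index) :
    ∃ H : Subgroup G, IsMulCommutative H ∧ Nat.card H = N.index ∧ H.index = Nat.card N := by
  obtain ⟨H, hH⟩ := Subgroup.exists_right_complement'_of_coprime hcop
  refine ⟨H, ⟨⟨fun a b => ?_⟩⟩, hH.symm.index_eq_card.symm, hH.index_eq_card⟩
  have h1 : ⁅(a : G), (b : G)⁆ ∈ N := hc (by
    rw [commutator_def]
    exact Subgroup.commutator_mem_commutator (Subgroup.mem_top _) (Subgroup.mem_top _))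
  have h2 : ⁅(a : G), (b : G)⁆ ∈ H := by
    rw [commutatorElement_def]
    exact H.mul_mem (H.mul_mem (H.mul_mem a.2 b.2) (H.inv_mem a.2)) (H.inv_mem b.2)
  have h3 : ⁅(a : G), (b : G)⁆ = 1 := by
    have := hH.disjoint
    rw [Subgroup.disjoint_def] at this
    exact this h1 h2
  apply Subtype.ext
  rw [Subgroup.coe_mul, Subgroup.coe_mul]
  exact commutatorElement_eq_one_iff_mul_comm.mp h3

end Assemble

end Cfsg.Agent.Lib.Helper1.PiClasses
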