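import Mathlib
import Cfsg.Agent.Lib.Helper25.ACStmt
import Cfsg.Agent.Lib.Helper1.ACSYLUNIQ

/-!
# S3912 / UNIQSUB: in case (U) the group has a unique subgroup of order `r`; it is normal and
lies in `N₀`.
-/

set_option autoImplicit false

namespace Cfsg.Agent.Lib.Helper1.ACUNIQSUB

open Cfsg.Agent.Lib.Helper25.ACStmt
open Cfsg.Agent.Lib.Helper1.ACSYLUNIQ

universe u

theorem main (h : SylUniq.{u}) : UniqSub.{u} := by
  intro G _ _ hB r hr R N₀ hN₀n hN₀p hN₀ne hex
  have hrp : r.Prime := hr.out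
  obtain ⟨Z₀, hZR, hZcard, hZ⟩ := h G hB r R hex
  have hNR : N₀ ≤ (R : Subgroup G) := IsPGroup.le_sylow_of_normal hN₀p R
  -- an element of order r in N₀
  obtain ⟨n, hnN, hn1⟩ : ∃ n ∈ N₀, n ≠ 1 := by
    by_contra hcon
    apply hN₀ne
    rw [eq_bot_iff]
    intro t ht
    by_contra ht1
    exact hcon ⟨t, ht, ht1⟩
  obtain ⟨k, hk⟩ : ∃ k, orderOf n = r ^ k := by
    obtain ⟨k, hk⟩ := hN₀p ⟨n, hnN⟩
    have h1 : n ^ r ^ k = 1 := by
      have := congrArg Subtype.val hk
      simpa using this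
    exact ((Nat.dvd_prime_pow hrp).mp (orderOf_dvd_of_pow_eq_one h1)).imp fun j hj => hj.2
  have hk1 : 1 ≤ k := by
    by_contra hlt
    have h0 : k = 0 := by omega
    rw [h0, pow_zero, orderOf_eq_one_iff] at hk
    exact hn1 hk
  set y : G := n ^ (r ^ (k - 1)) with hy
  have hyN : y ∈ N₀ := Subgroup.pow_mem _ hnN _
  have hyo : orderOf y = r := by
    rw [hy, orderOf_pow_of_dvd (pow_ne_zero _ hrp.ne_zero)
      (by rw [hk]; exact pow_dvd_pow r (by omega)), hk, Nat.pow_div (by omega) hrp.pos]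
    have h1 : k - (k - 1) = 1 := by omega
    rw [h1, pow_one]
  have hyZ : y ∈ Z₀ := hZ y (hNR hyN) hyo
  have hZy : Subgroup.zpowers y = Z₀ :=
    Subgroup.eq_of_le_of_card_ge ((Subgroup.zpowers_le).mpr hyZ)
      (by rw [Nat.card_zpowers, hyo, hZcard])
  have hZN : Z₀ ≤ N₀ := by
    rw [← hZy]
    exact (Subgroup.zpowers_le).mpr hyN
  have hall : ∀ x : G, orderOf x = r → x ∈ Z₀ := by
    intro x hxo
    obtain ⟨g, hg⟩ := hB (Subgroup.zpowers y) (Subgroup.zpowers x) (isMulCommutative_zpowers y)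
      (isMulCommutative_zpowers x) (by rw [Nat.card_zpowers, Nat.card_zpowers, hyo, hxo])
    have hx : x ∈ (Subgroup.zpowers y).map (MulAut.conj g).toMonoidHom := by
      rw [← hg]
      exact Subgroup.mem_zpowers x
    obtain ⟨e, he, hex'⟩ := Subgroup.mem_map.mp hx
    have heN : e ∈ N₀ := (Subgroup.zpowers_le).mpr hyN he
    have hxN : x ∈ N₀ := by
      rw [← hex']
      change g * e * g⁻¹ ∈ N₀
      exact hN₀n.conj_mem e heN g
    exact hZ x (hNR hxN) hxo
  refine ⟨Z₀, ⟨fun t ht g => ?_⟩, hZcard, hZN, hall⟩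
  by_cases ht1 : t = 1
  · rw [ht1, mul_one, mul_inv_cancel]
    exact Z₀.one_mem
  · have hto : orderOf t = r := by
      have h1 : orderOf t ∣ r := by
        have h2 : orderOf (⟨t, ht⟩ : Z₀) ∣ Nat.card ↥Z₀ := orderOf_dvd_natCard _
        rw [hZcard] at h2
        rwa [Subgroup.orderOf_mk] at h2
      rcases (Nat.dvd_prime hrp).mp h1 with h3 | h3
      · exact absurd (orderOf_eq_one_iff.mp h3) ht1
      · exact h3
    apply hall
    have h4 := orderOf_injective (MulAut.conj g).toMonoidHom (MulAut.conj g).injective t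
    rw [hto] at h4
    exact h4

end Cfsg.Agent.Lib.Helper1.ACUNIQSUB
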