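import Mathlib
import Cfsg.Agent.Lib.Helper45.EOStmt

/-!
# S2264 piece CLOG: four bounds on `Nat.clog p E`.
-/

set_option autoImplicit false

namespace Cfsg.Agent.Lib.Helper1.EOCLOG

theorem two_mul_le_two_pow (k : ℕ) : 2 * k ≤ 2 ^ k := by
  induction k with
  | zero => simp
  | succ k ih =>
    rw [pow_succ]
    have : 1 ≤ 2 ^ k := Nat.one_le_two_pow
    omega

theorem two_mul_add_one_le_three_pow (k : ℕ) : 2 * k + 1 ≤ 3 ^ k := by
  induction k with
  | zero => simp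
  | succ k ih =>
    rw [pow_succ]
    omega

theorem two_mul_le_three_pow_pred (m : ℕ) (hm : 3 ≤ m) : 2 * m ≤ 3 ^ (m - 1) := by
  induction m, hm using Nat.le_induction with
  | base => norm_num
  | succ m hm ih =>
    have e : m + 1 - 1 = (m - 1) + 1 := by omega
    rw [e, pow_succ]
    have : 1 ≤ 3 ^ (m - 1) := Nat.one_le_pow _ _ (by norm_num)
    omega

theorem main : Cfsg.Agent.Lib.Helper45.EOStmt.Clog := by
  refine ⟨?_, ?_, ?_, ?_⟩
  · intro p E hp hE
    apply Nat.clog_le_of_le_pow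
    calc E = (E - 1) + 1 := by omega
      _ ≤ 2 ^ (E - 1) := Nat.lt_two_pow_self
      _ ≤ p ^ (E - 1) := Nat.pow_le_pow_left hp _
  · intro p E hp
    apply Nat.clog_le_of_le_pow
    calc E ≤ 2 * ((E + 1) / 2) := by omega
      _ ≤ 2 ^ ((E + 1) / 2) := two_mul_le_two_pow _
      _ ≤ p ^ ((E + 1) / 2) := Nat.pow_le_pow_left hp _
  · intro p E hp
    apply Nat.clog_le_of_le_pow
    calc E ≤ 2 * (E / 2) + 1 := by omega
      _ ≤ 3 ^ (E / 2) := two_mul_add_one_le_three_pow _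
      _ ≤ p ^ (E / 2) := Nat.pow_le_pow_left hp _
  · intro p m E hp hm hE
    apply Nat.clog_le_of_le_pow
    calc E ≤ 2 * m := hE
      _ ≤ 3 ^ (m - 1) := two_mul_le_three_pow_pred m hm
      _ ≤ p ^ (m - 1) := Nat.pow_le_pow_left hp _

end Cfsg.Agent.Lib.Helper1.EOCLOG
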