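import Mathlib
import Cfsg.Agent.Lib.Helper45.EOStmt

/-!
# S2264 piece FERM: `(q-1) ∏_{t<k} (q^(2^t) + 1 or q^(2^t)) ≤ q^(2^k) - 1`.
-/

set_option autoImplicit false

namespace Cfsg.Agent.Lib.Helper1.EOFERM

theorem main : Cfsg.Agent.Lib.Helper45.EOStmt.Ferm := by
  intro q k Ts hq
  induction k with
  | zero => simp
  | succ k ih =>
    rw [Finset.prod_range_succ, ← mul_assoc]
    have hy : 1 ≤ q ^ 2 ^ k := Nat.one_le_pow _ _ (by omega)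
    have hf : (if k ∈ Ts then q ^ 2 ^ k + 1 else q ^ 2 ^ k) ≤ q ^ 2 ^ k + 1 := by
      split_ifs <;> omega
    have hsq : q ^ 2 ^ (k + 1) = q ^ 2 ^ k * q ^ 2 ^ k := by
      rw [pow_succ, pow_mul, sq]
    refine le_trans (Nat.mul_le_mul ih hf) (le_of_eq ?_)
    rw [hsq]
    obtain ⟨z, hz⟩ : ∃ z, q ^ 2 ^ k = z + 1 := ⟨q ^ 2 ^ k - 1, by omega⟩
    rw [hz]
    have : (z + 1) * (z + 1) = z * (z + 1 + 1) + 1 := by ring
    rw [this]
    simp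

end Cfsg.Agent.Lib.Helper1.EOFERM
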