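import Mathlib
import Cfsg.Agent.Lib.Helper45.EOStmt

/-!
# S2264 piece LCMA: `lcm (q^a - 1) ≤ ∏ (q^a - 1) ≤ q^(Σ a)`.
-/

set_option autoImplicit false

namespace Cfsg.Agent.Lib.Helper1.EOLCMA

open Cfsg.Agent.Lib.Helper45.EOStmt

theorem main : Cfsg.Agent.Lib.Helper45.EOStmt.LcmA := by
  intro q D hq hD
  unfold SA
  have hpos : ∀ a ∈ D, 0 < q ^ a - 1 := by
    intro a ha
    have h1 : q ^ 1 ≤ q ^ a := Nat.pow_le_pow_right (by omega) (hD a ha)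
    rw [pow_one] at h1
    omega
  have hdvd : D.lcm (fun a => q ^ a - 1) ∣ ∏ a ∈ D, (q ^ a - 1) :=
    Finset.lcm_dvd (fun a ha => Finset.dvd_prod_of_mem _ ha)
  have hprodpos : 0 < ∏ a ∈ D, (q ^ a - 1) := Finset.prod_pos hpos
  calc D.lcm (fun a => q ^ a - 1) ≤ ∏ a ∈ D, (q ^ a - 1) := Nat.le_of_dvd hprodpos hdvd
    _ ≤ ∏ a ∈ D, q ^ a := Finset.prod_le_prod' (fun a _ => Nat.sub_le _ _)
    _ = q ^ D.sum id := by rw [Finset.prod_pow_eq_pow_sum]; rfl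

end Cfsg.Agent.Lib.Helper1.EOLCMA
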