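import Mathlib
import Cfsg.Agent.S0001
import Cfsg.Agent.Lib.Helper54.FpfCyclic

/-!
# The trace (norm) identity for Frobenius-like actions

`K`, `H` subgroups of `L` with `H` normalising `K` and `C_K(h) = 1` for `1 ≠ h ∈ H`.  In any ring
receiving `L`:  `S_K * S_H = S_K + ∑ u ∈ K, u S_H u⁻¹ - |K|`.  Consequences for actions on abelian
groups: if `C_M(H) = 0` and `C_M(K) = 0` then `|K| • M = 0`.
-/

set_option autoImplicit false

namespace Cfsg.Agent.Lib.Helper1.FrobTrace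

theorem sum_conj_eq {L R : Type*} [Group L] [Ring R] (ρ : L →* R) (K : Subgroup L) [Fintype K]
    (h : L) (hK : h ∈ Subgroup.normalizer (K : Set L))
    (hfree : ∀ u ∈ K, u * h = h * u → u = 1) :
    ∑ k : K, ρ ((k : L) * h) = ∑ u : K, ρ ((u : L) * h * (u : L)⁻¹) := by
  have hmem : ∀ u : K, (u : L) * h * (u : L)⁻¹ * h⁻¹ ∈ K := by
    intro u
    have h1 : h * (u : L)⁻¹ * h⁻¹ ∈ K := (Subgroup.mem_normalizer_iff.mp hK _).mp (K.inv_mem u.2)
    have e : (u : L) * h * (u : L)⁻¹ * h⁻¹ = (u : L) * (h * (u : L)⁻¹ * h⁻¹) := by group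
    rw [e]; exact K.mul_mem u.2 h1
  let φ : K → K := fun u => ⟨(u : L) * h * (u : L)⁻¹ * h⁻¹, hmem u⟩
  have hinj : Function.Injective φ := by
    intro u u' huu
    have h1 : (u : L) * h * (u : L)⁻¹ * h⁻¹ = (u' : L) * h * (u' : L)⁻¹ * h⁻¹ :=
      congrArg Subtype.val huu
    have h3 : (u : L) * h * (u : L)⁻¹ = (u' : L) * h * (u' : L)⁻¹ := mul_right_cancel h1
    have h2 : ((u' : L)⁻¹ * (u : L)) * h = h * ((u' : L)⁻¹ * (u : L)) := by
      calc (u' : L)⁻¹ * (u : L) * h = (u' : L)⁻¹ * ((u : L) * h * (u : L)⁻¹) * (u : L) := by group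
        _ = (u' : L)⁻¹ * ((u' : L) * h * (u' : L)⁻¹) * (u : L) := by rw [h3]
        _ = h * ((u' : L)⁻¹ * (u : L)) := by group
    have h4 := hfree _ (K.mul_mem (K.inv_mem u'.2) u.2) h2
    exact Subtype.ext (inv_mul_eq_one.mp h4).symm
  have hbij : Function.Bijective φ := Finite.injective_iff_bijective.mp hinj
  rw [← hbij.sum_comp (fun k : K => ρ ((k : L) * h))]
  apply Finset.sum_congr rfl
  intro u _
  congr 1
  show (u : L) * h * (u : L)⁻¹ * h⁻¹ * h = (u : L) * h * (u : L)⁻¹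
  group

/-- **Trace identity.** -/
theorem trace_identity {L R : Type*} [Group L] [Ring R] (ρ : L →* R) (K H : Subgroup L)
    [Fintype K] [Fintype H] (hHK : H ≤ Subgroup.normalizer (K : Set L))
    (hfree : ∀ h ∈ H, h ≠ 1 → ∀ u ∈ K, u * h = h * u → u = 1) :
    (∑ k : K, ρ k) * (∑ h : H, ρ h)
      = (∑ k : K, ρ k) + (∑ u : K, ρ u * (∑ h : H, ρ h) * ρ (u : L)⁻¹)
        - (Fintype.card K : R) := by
  classical
  have hL : (∑ k : K, ρ k) * (∑ h : H, ρ h) = ∑ h : H, ∑ k : K, ρ ((k : L) * (h : L)) := by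
    rw [Finset.sum_mul_sum, Finset.sum_comm]
    simp only [map_mul]
  have hR : (∑ u : K, ρ u * (∑ h : H, ρ h) * ρ (u : L)⁻¹)
      = ∑ h : H, ∑ u : K, ρ ((u : L) * (h : L) * (u : L)⁻¹) := by
    rw [Finset.sum_comm]
    apply Finset.sum_congr rfl
    intro u _
    rw [Finset.mul_sum, Finset.sum_mul]
    simp only [map_mul]
  rw [hL, hR]
  have hdiff : ∑ h : H, (∑ k : K, ρ ((k : L) * (h : L))
      - ∑ u : K, ρ ((u : L) * (h : L) * (u : L)⁻¹)) = (∑ k : K, ρ k) - (Fintype.card K : R) := by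
    rw [Finset.sum_eq_single (1 : H)]
    · simp
    · intro h _ hh
      rw [sub_eq_zero]
      exact sum_conj_eq ρ K (h : L) (hHK h.2) (hfree h h.2 (fun h1 => hh (Subtype.ext h1)))
    · intro hnot; exact absurd (Finset.mem_univ _) hnot
  rw [Finset.sum_sub_distrib, sub_eq_iff_eq_add] at hdiff
  rw [hdiff]; abel

/-- If `H` normalises `K`, `C_K(h) = 1` for `1 ≠ h ∈ H`, and both `H` and `K` have no nonzero fixed
points on the module `M`, then `|K|` kills `M`. -/
theorem nsmul_eq_zero_of_fpf {L M : Type*} [Group L] [AddCommGroup M] (ρ : L →* AddMonoid.End M)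
    (K H : Subgroup L) [Finite K] [Finite H] (hHK : H ≤ Subgroup.normalizer (K : Set L))
    (hfree : ∀ h ∈ H, h ≠ 1 → ∀ u ∈ K, u * h = h * u → u = 1)
    (hH : ∀ m : M, (∀ h ∈ H, ρ h m = m) → m = 0)
    (hK : ∀ m : M, (∀ k ∈ K, ρ k m = m) → m = 0) (v : M) :
    Nat.card K • v = 0 := by
  classical
  let _ : Fintype K := Fintype.ofFinite K
  let _ : Fintype H := Fintype.ofFinite H
  have hfix : ∀ (S : Subgroup L) [Fintype S] (s' : L), s' ∈ S →
      ρ s' * ∑ s : S, ρ (s : L) = ∑ s : S, ρ (s : L) := by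
    intro S _ s' hs'
    rw [Finset.mul_sum, ← Equiv.sum_comp (Equiv.mulLeft (⟨s', hs'⟩ : S)) (fun s : S => ρ (s : L))]
    apply Finset.sum_congr rfl
    intro s _
    rw [← map_mul]; rfl
  have hSH : ∀ w : M, (∑ h : H, ρ (h : L)) w = 0 := by
    intro w
    apply hH
    intro h' hh'
    exact DFunLike.congr_fun (hfix H h' hh') w
  have hSK : ∀ w : M, (∑ k : K, ρ (k : L)) w = 0 := by
    intro w
    apply hK
    intro k' hk'
    exact DFunLike.congr_fun (hfix K k' hk') w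
  have hid := trace_identity ρ K H hHK hfree
  have h1 : (∑ k : K, ρ (k : L)) ((∑ h : H, ρ (h : L)) v)
      = (∑ k : K, ρ (k : L)) v + (∑ u : K, ρ u * (∑ h : H, ρ (h : L)) * ρ (u : L)⁻¹) v
        - Fintype.card K • v := DFunLike.congr_fun hid v
  have h2 : (∑ u : K, ρ u * (∑ h : H, ρ (h : L)) * ρ (u : L)⁻¹) v = 0 := by
    have e1 : (∑ u : K, ρ u * (∑ h : H, ρ (h : L)) * ρ (u : L)⁻¹) v
        = ∑ u : K, (ρ u * (∑ h : H, ρ (h : L)) * ρ (u : L)⁻¹) v :=
      AddMonoidHom.finsetSum_apply _ _ _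
    rw [e1]
    apply Finset.sum_eq_zero
    intro u _
    show ρ u ((∑ h : H, ρ (h : L)) (ρ (u : L)⁻¹ v)) = 0
    rw [hSH, map_zero]
  rw [hSH v, map_zero, hSK v, h2, zero_add, zero_sub, zero_eq_neg] at h1
  rw [Nat.card_eq_fintype_card]
  exact h1

/-- Group-internal form: `V` abelian, normalised by `K` and `H`; `H` normalises `K` with
`C_K(h) = 1` for `1 ≠ h ∈ H`; `C_V(H) = 1 = C_V(K)`. Then `v ^ |K| = 1` on `V`. -/
theorem pow_card_eq_one_of_fpf {G : Type*} [Group G] [Finite G] (V K H : Subgroup G)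
    (hVab : ∀ x ∈ V, ∀ y ∈ V, x * y = y * x)
    (hKV : K ≤ Subgroup.normalizer (V : Set G)) (hHV : H ≤ Subgroup.normalizer (V : Set G))
    (hHK : H ≤ Subgroup.normalizer (K : Set G))
    (hfree : ∀ h ∈ H, h ≠ 1 → ∀ u ∈ K, u * h = h * u → u = 1)
    (hCH : ∀ v ∈ V, (∀ h ∈ H, h * v = v * h) → v = 1)
    (hCK : ∀ v ∈ V, (∀ k ∈ K, k * v = v * k) → v = 1) :
    ∀ v ∈ V, v ^ Nat.card K = 1 := by
  let _ : CommGroup ↥V :=
    { (inferInstance : Group ↥V) with mul_comm := fun x y => Subtype.ext (hVab x x.2 y y.2) }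
  let ρ : ↥(Subgroup.normalizer (V : Set G)) →* AddMonoid.End (Additive ↥V) :=
    (monoidEndToAdditive ↥V).toMonoidHom.comp (Cfsg.Agent.Lib.Helper54.FpfCyclic.conjEnd V)
  have hρ : ∀ (g : ↥(Subgroup.normalizer (V : Set G))) (x : ↥V),
      ρ g (Additive.ofMul x) = Additive.ofMul x → (g : G) * (x : G) = (x : G) * (g : G) := by
    intro g x hx
    have h3 : Cfsg.Agent.Lib.Helper54.FpfCyclic.conjEnd V g x = x := congrArg Additive.toMul hx
    have h4 : (g : G) * (x : G) * (g : G)⁻¹ = (x : G) := congrArg Subtype.val h3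
    calc (g : G) * (x : G) = (g : G) * (x : G) * (g : G)⁻¹ * g := by group
      _ = (x : G) * g := by rw [h4]
  have fixlemma : ∀ (S : Subgroup G) (hSV : S ≤ Subgroup.normalizer (V : Set G)),
      (∀ v ∈ V, (∀ s ∈ S, s * v = v * s) → v = 1) →
      ∀ m : Additive ↥V, (∀ h ∈ S.subgroupOf (Subgroup.normalizer (V : Set G)), ρ h m = m) →
        m = 0 := by
    intro S hSV hC m hm
    have h5 : ((Additive.toMul m : ↥V) : G) = 1 := by
      apply hC _ (Additive.toMul m).2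
      intro s hs
      exact hρ ⟨s, hSV hs⟩ (Additive.toMul m) (hm ⟨s, hSV hs⟩ (Subgroup.mem_subgroupOf.mpr hs))
    have h6 : Additive.toMul m = 1 := Subtype.ext h5
    exact congrArg Additive.ofMul h6
  intro v hv
  have hmain := nsmul_eq_zero_of_fpf ρ (K.subgroupOf (Subgroup.normalizer (V : Set G)))
    (H.subgroupOf (Subgroup.normalizer (V : Set G)))
    (by
      intro h hh
      rw [Subgroup.mem_normalizer_iff]
      intro u
      rw [Subgroup.mem_subgroupOf, Subgroup.mem_subgroupOf]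
      exact Subgroup.mem_normalizer_iff.mp (hHK (Subgroup.mem_subgroupOf.mp hh)) (u : G))
    (by
      intro h hh hh1 u hu huh
      have h7 := hfree (h : G) (Subgroup.mem_subgroupOf.mp hh)
        (fun h8 => hh1 (Subtype.ext h8)) (u : G) (Subgroup.mem_subgroupOf.mp hu)
        (congrArg Subtype.val huh)
      exact Subtype.ext h7)
    (fixlemma H hHV hCH) (fixlemma K hKV hCK) (Additive.ofMul (⟨v, hv⟩ : ↥V))
  rw [Cfsg.Agent.S0001.card_subgroupOf_of_le hKV] at hmain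
  have h9 : (⟨v, hv⟩ : ↥V) ^ Nat.card K = 1 := congrArg Additive.toMul hmain
  exact congrArg Subtype.val h9

end Cfsg.Agent.Lib.Helper1.FrobTrace
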