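import Mathlib
import Cfsg.Agent.S0001
import Cfsg.Agent.S0026
import Cfsg.Agent.Lib.Helper1.FrobTrace

/-!
# Fixed-point-free automorphisms: basic toolkit

`IsFpf φ` (only `1` is fixed), `IsInv φ H` (`H` is `φ`-invariant), restriction to invariant
subgroups, induced automorphism on quotients, invariant Sylow subgroups, and the key consequence of
the trace identity: for `φ` of prime order, an invariant subgroup `Q` of order prime to that of an
invariant abelian normal subgroup `V` centralizes `V`.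
-/

set_option autoImplicit false

namespace Cfsg.Agent.Lib.Helper1.Fpf

open Cfsg.Agent.Lib.Helper1.FrobTrace

variable {G : Type*} [Group G]

/-- `φ` fixes only `1`. -/
def IsFpf (φ : G ≃* G) : Prop := ∀ g, φ g = g → g = 1

/-- `H` is `φ`-invariant. -/
def IsInv (φ : G ≃* G) (H : Subgroup G) : Prop := ∀ x ∈ H, φ x ∈ H

theorem pow_apply (φ : G ≃* G) (n : ℕ) (g : G) : ((φ ^ n : MulAut G)) g = (⇑φ)^[n] g := by
  induction n with
  | zero => rfl
  | succ n ih =>
    rw [pow_succ', MulAut.mul_apply, ih, Function.iterate_succ_apply']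

theorem isInv_pow {φ : G ≃* G} {H : Subgroup G} (h : IsInv φ H) (n : ℕ) :
    IsInv (φ ^ n : MulAut G) H := by
  intro x hx
  rw [pow_apply]
  induction n with
  | zero => exact hx
  | succ n ih => rw [Function.iterate_succ_apply']; exact h _ ih

theorem isInv_map_eq [Finite G] {φ : G ≃* G} {H : Subgroup G} (h : IsInv φ H) :
    H.map φ.toMonoidHom = H := by
  apply Subgroup.eq_of_le_of_card_ge
  · rintro _ ⟨x, hx, rfl⟩; exact h x hx
  · rw [Subgroup.card_map_of_injective φ.injective]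

theorem isInv_symm [Finite G] {φ : G ≃* G} {H : Subgroup G} (h : IsInv φ H) : IsInv φ.symm H := by
  intro x hx
  rw [← isInv_map_eq h] at hx
  obtain ⟨y, hy, rfl⟩ := hx
  have : φ.symm (φ.toMonoidHom y) = y := φ.symm_apply_apply y
  rw [this]; exact hy

theorem exists_of_isInv [Finite G] {φ : G ≃* G} {H : Subgroup G} (h : IsInv φ H) {x : G}
    (hx : x ∈ H) : ∃ y ∈ H, φ y = x :=
  ⟨φ.symm x, isInv_symm h x hx, φ.apply_symm_apply x⟩

/-- restriction of an automorphism to an invariant subgroup -/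
def restr [Finite G] (φ : G ≃* G) (H : Subgroup G) (h : IsInv φ H) : H ≃* H where
  toFun x := ⟨φ x, h x x.2⟩
  invFun x := ⟨φ.symm x, isInv_symm h x x.2⟩
  left_inv x := Subtype.ext (φ.symm_apply_apply x)
  right_inv x := Subtype.ext (φ.apply_symm_apply x)
  map_mul' x y := Subtype.ext (map_mul φ (x : G) (y : G))

theorem restr_apply [Finite G] (φ : G ≃* G) (H : Subgroup G) (h : IsInv φ H) (x : H) :
    ((restr φ H h x : H) : G) = φ x := rfl

theorem restr_iterate [Finite G] (φ : G ≃* G) (H : Subgroup G) (h : IsInv φ H) (n : ℕ) (x : H) :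
    ((((restr φ H h : H → H))^[n] x : H) : G) = (⇑φ)^[n] x := by
  induction n with
  | zero => rfl
  | succ n ih => rw [Function.iterate_succ_apply', Function.iterate_succ_apply', restr_apply, ih]

theorem restr_iterate_id [Finite G] (φ : G ≃* G) (H : Subgroup G) (h : IsInv φ H) {n : ℕ}
    (hn : (⇑φ)^[n] = id) : ((restr φ H h : H → H))^[n] = id := by
  funext x
  apply Subtype.ext
  rw [restr_iterate, hn]; rfl

theorem restr_isFpf [Finite G] {φ : G ≃* G} (hφ : IsFpf φ) (H : Subgroup G) (h : IsInv φ H) :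
    IsFpf (restr φ H h) :=
  fun x hx => Subtype.ext (hφ x (congrArg Subtype.val hx))

theorem comm_inj {φ : G ≃* G} (hφ : IsFpf φ) : Function.Injective (fun g : G => g⁻¹ * φ g) := by
  intro a b hab
  have h2 : a⁻¹ * φ a = b⁻¹ * φ b := hab
  have h3 : φ a = a * (b⁻¹ * φ b) := by rw [← h2]; group
  have h1 : φ (a * b⁻¹) = a * b⁻¹ := by
    rw [map_mul, map_inv, h3]; group
  exact mul_inv_eq_one.mp (hφ _ h1)

theorem comm_surj [Finite G] {φ : G ≃* G} (hφ : IsFpf φ) :
    Function.Surjective (fun g : G => g⁻¹ * φ g) :=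
  Finite.surjective_of_injective (comm_inj hφ)

/-- the coset lemma: if `g⁻¹ φ(g)` lies in the invariant subgroup `N` then so does `g`. -/
theorem mem_of_comm_mem [Finite G] {φ : G ≃* G} (hφ : IsFpf φ) (N : Subgroup G) (hN : IsInv φ N)
    (g : G) (hg : g⁻¹ * φ g ∈ N) : g ∈ N := by
  let c : N → N := fun x => ⟨(x : G)⁻¹ * φ x, N.mul_mem (N.inv_mem x.2) (hN x x.2)⟩
  have hc : Function.Injective c := by
    intro a b hab
    exact Subtype.ext (comm_inj hφ (congrArg Subtype.val hab))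
  have hs : Function.Surjective c := Finite.surjective_of_injective hc
  obtain ⟨x, hx⟩ := hs ⟨_, hg⟩
  have h1 : (x : G)⁻¹ * φ x = g⁻¹ * φ g := congrArg Subtype.val hx
  have h2 : (x : G) = g := comm_inj hφ h1
  rw [← h2]; exact x.2

/-- the induced automorphism on the quotient by an invariant normal subgroup -/
def quot [Finite G] (φ : G ≃* G) (N : Subgroup G) [N.Normal] (h : IsInv φ N) : G ⧸ N ≃* G ⧸ N :=
  QuotientGroup.congr N N φ (isInv_map_eq h)

theorem quot_mk [Finite G] (φ : G ≃* G) (N : Subgroup G) [N.Normal] (h : IsInv φ N) (g : G) :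
    quot φ N h (QuotientGroup.mk g) = QuotientGroup.mk (φ g) := rfl

theorem quot_iterate [Finite G] (φ : G ≃* G) (N : Subgroup G) [N.Normal] (h : IsInv φ N) (n : ℕ)
    (g : G) : ((quot φ N h : G ⧸ N → G ⧸ N))^[n] (QuotientGroup.mk g)
      = QuotientGroup.mk ((⇑φ)^[n] g) := by
  induction n with
  | zero => rfl
  | succ n ih => rw [Function.iterate_succ_apply', Function.iterate_succ_apply', ih, quot_mk]

theorem quot_iterate_id [Finite G] (φ : G ≃* G) (N : Subgroup G) [N.Normal] (h : IsInv φ N) {n : ℕ}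
    (hn : (⇑φ)^[n] = id) : ((quot φ N h : G ⧸ N → G ⧸ N))^[n] = id := by
  funext x
  induction x using QuotientGroup.induction_on with
  | H g => rw [quot_iterate, hn]; rfl

theorem quot_isFpf [Finite G] {φ : G ≃* G} (hφ : IsFpf φ) (N : Subgroup G) [N.Normal]
    (h : IsInv φ N) : IsFpf (quot φ N h) := by
  intro x
  induction x using QuotientGroup.induction_on with
  | H g =>
    intro hx
    rw [quot_mk] at hx
    have h1 : g⁻¹ * φ g ∈ N := QuotientGroup.eq.mp hx.symm
    exact (QuotientGroup.eq_one_iff g).mpr (mem_of_comm_mem hφ N h g h1)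

/-- A fixed-point-free automorphism of a finite group leaves a Sylow `p`-subgroup invariant. -/
theorem exists_isInv_sylow [Finite G] {φ : G ≃* G} (hφ : IsFpf φ) (p : ℕ) [Fact p.Prime] :
    ∃ P : Sylow p G, IsInv φ (P : Subgroup G) := by
  obtain ⟨P⟩ : Nonempty (Sylow p G) := inferInstance
  let P' : Sylow p G := P.mapSurjective (f := φ.toMonoidHom) φ.surjective
  obtain ⟨g, hg⟩ := MulAction.exists_smul_eq G P P'
  obtain ⟨a, ha⟩ := comm_surj hφ g⁻¹
  have ha' : φ a = a * g⁻¹ := by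
    have : a⁻¹ * φ a = g⁻¹ := ha
    rw [← this]; group
  refine ⟨a • P, ?_⟩
  intro x hx
  rw [Sylow.smul_def, Sylow.pointwise_smul_def] at hx
  obtain ⟨y, hy, rfl⟩ := hx
  have h1 : φ y ∈ (P' : Subgroup G) := ⟨y, hy, rfl⟩
  rw [← hg, Sylow.smul_def, Sylow.pointwise_smul_def] at h1
  obtain ⟨z, hz, hz'⟩ := h1
  have hz2 : g * z * g⁻¹ = φ y := hz'
  rw [Sylow.smul_def, Sylow.pointwise_smul_def]
  refine ⟨z, hz, ?_⟩
  show a * z * a⁻¹ = φ (a * y * a⁻¹)
  rw [map_mul, map_mul, map_inv, ha', ← hz2]; group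

theorem isFpf_pow {φ : G ≃* G} (hφ : IsFpf φ) {r : ℕ} (hr : r.Prime) (hφr : (⇑φ)^[r] = id)
    (n : ℕ) (hn : ¬ r ∣ n) : IsFpf (φ ^ n : MulAut G) := by
  intro g hg
  rw [pow_apply] at hg
  have hcop : Nat.Coprime n r := ((Nat.Prime.coprime_iff_not_dvd hr).mpr hn).symm
  obtain ⟨m, -, hm⟩ := Nat.exists_mul_mod_eq_one_of_coprime hcop hr.one_lt
  have h1 : (⇑φ)^[n * m] g = g := by
    rw [Function.iterate_mul]
    exact Function.iterate_fixed hg m
  have h2 : n * m = 1 + r * (n * m / r) := by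
    have := Nat.div_add_mod (n * m) r; omega
  rw [h2, Function.iterate_add_apply, Function.iterate_mul, hφr, Function.iterate_id] at h1
  exact hφ g h1

theorem pow_eq_one_of_dvd {φ : G ≃* G} {r : ℕ} (hφr : (⇑φ)^[r] = id) (n : ℕ) (hn : r ∣ n)
    (g : G) : (⇑φ)^[n] g = g := by
  obtain ⟨k, rfl⟩ := hn
  rw [Function.iterate_mul, hφr, Function.iterate_id]; rfl

/-- Module form: a Frobenius-like pair `K ⋊ H` acting on `M` with `C_M(H) = 0` and `|K|`
invertible on `M`: then `K` acts trivially. -/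
theorem fix_of_frob {L M : Type*} [Group L] [AddCommGroup M] (ρ : L →* AddMonoid.End M)
    (K H : Subgroup L) [Finite K] [Finite H] (hHK : H ≤ Subgroup.normalizer (K : Set L))
    (hfree : ∀ h ∈ H, h ≠ 1 → ∀ u ∈ K, u * h = h * u → u = 1)
    (hH : ∀ m : M, (∀ h ∈ H, ρ h m = m) → m = 0)
    (hK : ∀ m : M, Nat.card K • m = 0 → m = 0) : ∀ k ∈ K, ∀ m : M, ρ k m = m := by
  classical
  let _ : Fintype K := Fintype.ofFinite K
  let _ : Fintype H := Fintype.ofFinite H
  have hfix : ∀ (S : Subgroup L) [Fintype S] (s' : L), s' ∈ S →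
      ρ s' * ∑ s : S, ρ (s : L) = ∑ s : S, ρ (s : L) := by
    intro S _ s' hs'
    rw [Finset.mul_sum, ← Equiv.sum_comp (Equiv.mulLeft (⟨s', hs'⟩ : S)) (fun s : S => ρ (s : L))]
    apply Finset.sum_congr rfl
    intro s _
    rw [← map_mul]; rfl
  have hSH : ∀ w : M, (∑ h : H, ρ (h : L)) w = 0 := by
    intro w
    apply hH
    intro h' hh'
    exact DFunLike.congr_fun (hfix H h' hh') w
  have hid := trace_identity ρ K H hHK hfree
  intro k hk v
  have h1 : (∑ k : K, ρ (k : L)) ((∑ h : H, ρ (h : L)) v)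
      = (∑ k : K, ρ (k : L)) v + (∑ u : K, ρ u * (∑ h : H, ρ (h : L)) * ρ (u : L)⁻¹) v
        - Fintype.card K • v := DFunLike.congr_fun hid v
  have h2 : (∑ u : K, ρ u * (∑ h : H, ρ (h : L)) * ρ (u : L)⁻¹) v = 0 := by
    have e1 : (∑ u : K, ρ u * (∑ h : H, ρ (h : L)) * ρ (u : L)⁻¹) v
        = ∑ u : K, (ρ u * (∑ h : H, ρ (h : L)) * ρ (u : L)⁻¹) v :=
      AddMonoidHom.finsetSum_apply _ _ _
    rw [e1]
    apply Finset.sum_eq_zero
    intro u _
    show ρ u ((∑ h : H, ρ (h : L)) (ρ (u : L)⁻¹ v)) = 0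
    rw [hSH, map_zero]
  rw [hSH v, map_zero, h2, add_zero] at h1
  have h3 : (∑ k : K, ρ (k : L)) v = Fintype.card K • v := by
    rw [eq_comm, sub_eq_zero] at h1; exact h1
  have h4 : ρ k ((∑ k : K, ρ (k : L)) v) = (∑ k : K, ρ (k : L)) v :=
    DFunLike.congr_fun (hfix K k hk) v
  rw [h3, map_nsmul] at h4
  apply sub_eq_zero.mp
  apply hK
  rw [Nat.card_eq_fintype_card, nsmul_sub, h4, sub_self]

theorem pow_card_of_mem [Finite G] {H : Subgroup G} {x : G} (hx : x ∈ H) : x ^ Nat.card H = 1 :=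
  orderOf_dvd_iff_pow_eq_one.mp (Subgroup.orderOf_dvd_natCard H hx)

theorem eq_one_of_coprime_pow [Finite G] {V : Subgroup G} {v : G} (hv : v ∈ V) {n : ℕ}
    (hcop : n.Coprime (Nat.card V)) (hn : v ^ n = 1) : v = 1 := by
  have h1 : orderOf v ∣ n := orderOf_dvd_of_pow_eq_one hn
  have h2 : orderOf v ∣ Nat.card V := Subgroup.orderOf_dvd_natCard V hv
  have h3 : orderOf v ∣ 1 := by
    have := Nat.dvd_gcd h1 h2
    rwa [Nat.Coprime.gcd_eq_one hcop] at this
  exact orderOf_eq_one_iff.mp (Nat.dvd_one.mp h3)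

/-- For `φ` fixed-point-free of prime order `r`: an invariant subgroup `Q` centralizes an invariant
abelian normal subgroup `V` of coprime order. -/
theorem centralizes_of_fpf [Finite G] {φ : G ≃* G} (hφ : IsFpf φ) {r : ℕ} (hr : r.Prime)
    (hφr : (⇑φ)^[r] = id) (V : Subgroup G) [V.Normal] (hVφ : IsInv φ V)
    (hVab : ∀ x ∈ V, ∀ y ∈ V, x * y = y * x)
    (Q : Subgroup G) (hQφ : IsInv φ Q) (hcop : (Nat.card Q).Coprime (Nat.card V)) :
    ∀ x ∈ Q, ∀ v ∈ V, x * v = v * x := by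
  let _ : CommGroup ↥V :=
    { (inferInstance : Group ↥V) with mul_comm := fun x y => Subtype.ext (hVab x x.2 y y.2) }
  let ψ : MulAut ↥V := restr φ V hVφ
  let ρ : MulAut ↥V →* AddMonoid.End (Additive ↥V) :=
    (monoidEndToAdditive ↥V).toMonoidHom.comp (MulDistribMulAction.toMonoidEnd (MulAut ↥V) ↥V)
  have hρ : ∀ (f : MulAut ↥V) (v : ↥V), ρ f (Additive.ofMul v) = Additive.ofMul (f v) :=
    fun f v => rfl
  let cn : G →* MulAut ↥V := MulAut.conjNormal
  let K : Subgroup (MulAut ↥V) := Q.map cn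
  let H : Subgroup (MulAut ↥V) := Subgroup.zpowers ψ
  have hψpow : ∀ (n : ℕ) (v : ↥V), (((ψ ^ n : MulAut ↥V) v : ↥V) : G) = (⇑φ)^[n] (v : G) := by
    intro n v
    rw [pow_apply]
    exact restr_iterate φ V hVφ n v
  have hcnψ : ∀ x : G, ψ * cn x * ψ⁻¹ = cn (φ x) := by
    intro x
    rw [mul_inv_eq_iff_eq_mul]
    ext v
    show φ (x * (v : G) * x⁻¹) = φ x * φ (v : G) * (φ x)⁻¹
    rw [map_mul, map_mul, map_inv]
  have hHK : H ≤ Subgroup.normalizer (K : Set (MulAut ↥V)) := by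
    rw [Subgroup.zpowers_le]
    apply Cfsg.Agent.S0026.mem_normalizer_of_conj_mem
    · rintro _ ⟨x, hx, rfl⟩
      rw [hcnψ]
      exact ⟨φ x, hQφ x hx, rfl⟩
    · rintro _ ⟨x, hx, rfl⟩
      obtain ⟨y, hy, rfl⟩ := exists_of_isInv hQφ hx
      rw [← hcnψ]
      have : ψ⁻¹ * (ψ * cn y * ψ⁻¹) * ψ = cn y := by group
      rw [this]
      exact ⟨y, hy, rfl⟩
  have hfree : ∀ h ∈ H, h ≠ 1 → ∀ u ∈ K, u * h = h * u → u = 1 := by
    intro h hh hh1 u hu huh
    obtain ⟨n, rfl⟩ := (mem_powers_iff_mem_zpowers).mpr hh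
    obtain ⟨x, hx, rfl⟩ := hu
    have hn : ¬ r ∣ n := by
      intro hdvd
      apply hh1
      ext v
      show (((ψ ^ n : MulAut ↥V) v : ↥V) : G) = v
      rw [hψpow, pow_eq_one_of_dvd hφr n hdvd]
    have hθ := isFpf_pow hφ hr hφr n hn
    have hθV : IsInv (φ ^ n : MulAut G) V := isInv_pow hVφ n
    -- `x⁻¹ θ(x)` centralizes `V`
    have hC : IsInv (φ ^ n : MulAut G) (Subgroup.centralizer (V : Set G)) := by
      intro c hc
      rw [Subgroup.mem_centralizer_iff] at hc ⊢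
      intro w hw
      obtain ⟨w', hw', rfl⟩ := exists_of_isInv hθV hw
      rw [← map_mul, ← map_mul, hc w' hw']
    have hmem : x⁻¹ * (φ ^ n : MulAut G) x ∈ Subgroup.centralizer (V : Set G) := by
      rw [Subgroup.mem_centralizer_iff]
      intro w hw
      obtain ⟨w', hw', rfl⟩ := exists_of_isInv hθV hw
      have h1 := DFunLike.congr_fun huh ⟨w', hw'⟩
      have h2 : x * (⇑φ)^[n] w' * x⁻¹ = (⇑φ)^[n] (x * w' * x⁻¹) := by
        have h3 := congrArg Subtype.val h1
        have e1 : (((cn x * ψ ^ n : MulAut ↥V) ⟨w', hw'⟩ : ↥V) : G) = x * (⇑φ)^[n] w' * x⁻¹ := by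
          show x * (((ψ ^ n : MulAut ↥V) ⟨w', hw'⟩ : ↥V) : G) * x⁻¹ = _
          rw [hψpow]
        have e2 : (((ψ ^ n * cn x : MulAut ↥V) ⟨w', hw'⟩ : ↥V) : G) = (⇑φ)^[n] (x * w' * x⁻¹) := by
          show (((ψ ^ n : MulAut ↥V) (cn x ⟨w', hw'⟩) : ↥V) : G) = _
          rw [hψpow]; rfl
        rw [e1, e2] at h3
        exact h3
      rw [← pow_apply, ← pow_apply, map_mul, map_mul, map_inv] at h2
      set θ : G ≃* G := (φ ^ n : MulAut G) with hθdef
      calc θ w' * (x⁻¹ * θ x) = x⁻¹ * (x * θ w' * x⁻¹) * θ x := by group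
        _ = x⁻¹ * (θ x * θ w' * (θ x)⁻¹) * θ x := by rw [h2]
        _ = x⁻¹ * θ x * θ w' := by group
    have hxC := mem_of_comm_mem hθ _ hC x hmem
    rw [Subgroup.mem_centralizer_iff] at hxC
    ext v
    show x * (v : G) * x⁻¹ = v
    rw [← hxC v v.2]; group
  have hH : ∀ m : Additive ↥V, (∀ h ∈ H, ρ h m = m) → m = 0 := by
    intro m hm
    have h1 := hm ψ (Subgroup.mem_zpowers ψ)
    have h2 : ψ (Additive.toMul m) = Additive.toMul m := congrArg Additive.toMul h1
    have h3 : ((Additive.toMul m : ↥V) : G) = 1 := hφ _ (congrArg Subtype.val h2)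
    have h4 : Additive.toMul m = 1 := Subtype.ext h3
    exact congrArg Additive.ofMul h4
  have hKcard : (Nat.card K).Coprime (Nat.card V) :=
    Nat.Coprime.coprime_dvd_left (Subgroup.card_map_dvd Q cn) hcop
  have hK : ∀ m : Additive ↥V, Nat.card K • m = 0 → m = 0 := by
    intro m hm
    have h1 : (Additive.toMul m : ↥V) ^ Nat.card K = 1 := congrArg Additive.toMul hm
    have h2 : ((Additive.toMul m : ↥V) : G) ^ Nat.card K = 1 := congrArg Subtype.val h1
    have h3 := eq_one_of_coprime_pow (Additive.toMul m).2 hKcard h2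
    have h4 : Additive.toMul m = 1 := Subtype.ext h3
    exact congrArg Additive.ofMul h4
  have hmain := fix_of_frob ρ K H hHK hfree hH hK
  intro x hx v hv
  have h1 := hmain (cn x) ⟨x, hx, rfl⟩ (Additive.ofMul (⟨v, hv⟩ : ↥V))
  rw [hρ] at h1
  have h2 : cn x ⟨v, hv⟩ = ⟨v, hv⟩ := congrArg Additive.toMul h1
  have h3 : x * v * x⁻¹ = v := congrArg Subtype.val h2
  calc x * v = x * v * x⁻¹ * x := by group
    _ = v * x := by rw [h3]

end Cfsg.Agent.Lib.Helper1.Fpf
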