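import Mathlib
import Cfsg.Agent.Lib.Helper96.HallDStmt

/-!
# S2534 piece X8: a `{2,3}`-subgroup of `A_8` (the even elements of the stabilizer of the blocks
`{0,1,2}`, `{3,4,5}` fixing `6` and `7`) which fixes no partition into two 4-sets.
-/

set_option autoImplicit false
set_option linter.style.haveILetI false

namespace Cfsg.Agent.Lib.Helper1.HDX8

open Equiv Cfsg.Agent.Lib.Helper96.HallConjStmt Cfsg.Agent.Lib.Helper96.HallDStmt
open scoped Pointwise

/-- `(0 1 2)` -/
def u : Perm (Fin 8) := swap 0 1 * swap 1 2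
/-- `(3 4 5)` -/
def u' : Perm (Fin 8) := swap 3 4 * swap 4 5
/-- `(0 3 1 4)(2 5)` -/
def v : Perm (Fin 8) := swap 0 3 * swap 3 1 * swap 1 4 * swap 2 5

/-- the first block -/
def Af : Finset (Fin 8) := {0, 1, 2}
/-- the second block -/
def Bf : Finset (Fin 8) := {3, 4, 5}

/-- the pair of blocks -/
def S : Set (Set (Fin 8)) := {(Af : Set (Fin 8)), (Bf : Set (Fin 8))}

/-- the stabilizer of the pair of blocks and of the points `6`, `7` -/
def K₀ : Subgroup (Perm (Fin 8)) :=
  MulAction.stabilizer (Perm (Fin 8)) S ⊓ MulAction.stabilizer (Perm (Fin 8)) (6 : Fin 8) ⊓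
    MulAction.stabilizer (Perm (Fin 8)) (7 : Fin 8)

theorem mem_K₀ (g : Perm (Fin 8)) :
    g ∈ K₀ ↔ (g • S = S ∧ g • (6 : Fin 8) = 6) ∧ g • (7 : Fin 8) = 7 := by
  simp only [K₀, Subgroup.mem_inf, MulAction.mem_stabilizer_iff]

theorem smul_coe (g : Perm (Fin 8)) (D : Finset (Fin 8)) :
    g • (D : Set (Fin 8)) = ((D.image g : Finset (Fin 8)) : Set (Fin 8)) := by
  rw [Finset.coe_image]; rfl

theorem brute : ∀ D ∈ (Finset.univ : Finset (Fin 8)).powersetCard 4,
    ∃ g ∈ [u, u', v], D.image g ≠ D ∧ D.image g ≠ Dᶜ := by decide +kernel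

theorem hu : Perm.sign u = 1 := by decide +kernel
theorem hu' : Perm.sign u' = 1 := by decide +kernel
theorem hv : Perm.sign v = 1 := by decide +kernel

theorem u_mem : u ∈ K₀ := by
  rw [mem_K₀]
  refine ⟨⟨?_, ?_⟩, ?_⟩
  · show u • ({(Af : Set (Fin 8)), (Bf : Set (Fin 8))} : Set (Set (Fin 8))) = _
    rw [Set.smul_set_insert, Set.smul_set_singleton, smul_coe, smul_coe,
      (by decide +kernel : Af.image u = Af), (by decide +kernel : Bf.image u = Bf)]
    rfl
  · show u 6 = 6
    decide +kernel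
  · show u 7 = 7
    decide +kernel

theorem u'_mem : u' ∈ K₀ := by
  rw [mem_K₀]
  refine ⟨⟨?_, ?_⟩, ?_⟩
  · show u' • ({(Af : Set (Fin 8)), (Bf : Set (Fin 8))} : Set (Set (Fin 8))) = _
    rw [Set.smul_set_insert, Set.smul_set_singleton, smul_coe, smul_coe,
      (by decide +kernel : Af.image u' = Af), (by decide +kernel : Bf.image u' = Bf)]
    rfl
  · show u' 6 = 6
    decide +kernel
  · show u' 7 = 7
    decide +kernel

theorem v_mem : v ∈ K₀ := by
  rw [mem_K₀]
  refine ⟨⟨?_, ?_⟩, ?_⟩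
  · show v • ({(Af : Set (Fin 8)), (Bf : Set (Fin 8))} : Set (Set (Fin 8))) = _
    rw [Set.smul_set_insert, Set.smul_set_singleton, smul_coe, smul_coe,
      (by decide +kernel : Af.image v = Bf), (by decide +kernel : Bf.image v = Af),
      Set.pair_comm]
    rfl
  · show v 6 = 6
    decide +kernel
  · show v 7 = 7
    decide +kernel

theorem cover : ∀ x : Fin 8, x ∈ Af ∨ x ∈ Bf ∨ x = 6 ∨ x = 7 := by decide +kernel

/-- an element of `K₀` of prime order `p ≥ 5` is trivial -/
theorem eq_one_of_mem (hPINV : PINV) (g : Perm (Fin 8)) (hg : g ∈ K₀) (p : ℕ) (hp : p.Prime)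
    (hp5 : 5 ≤ p) (hgp : g ^ p = 1) : g = 1 := by
  obtain ⟨⟨hS, h6⟩, h7⟩ := (mem_K₀ g).1 hg
  have hAB : (Af : Set (Fin 8)) ≠ (Bf : Set (Fin 8)) := by
    intro h
    have h0 : (0 : Fin 8) ∈ (Af : Set (Fin 8)) := Finset.mem_coe.2 (by decide +kernel)
    rw [h] at h0
    exact absurd (Finset.mem_coe.1 h0) (by decide +kernel)
  have hA : g • (Af : Set (Fin 8)) ∈ S := by
    have : g • (Af : Set (Fin 8)) ∈ g • S := Set.smul_mem_smul_set (Set.mem_insert _ _)
    rwa [hS] at this
  have hB : g • (Bf : Set (Fin 8)) ∈ S := by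
    have : g • (Bf : Set (Fin 8)) ∈ g • S :=
      Set.smul_mem_smul_set (Set.mem_insert_of_mem _ rfl)
    rwa [hS] at this
  have hinj : g • (Af : Set (Fin 8)) ≠ g • (Bf : Set (Fin 8)) := fun h =>
    hAB (MulAction.injective g h)
  have hAA : g • (Af : Set (Fin 8)) = Af := by
    rcases hA with h | h
    · exact h
    · exfalso
      have h' : g • (Af : Set (Fin 8)) = (Bf : Set (Fin 8)) := h
      have hBA : g • (Bf : Set (Fin 8)) = Af := by
        rcases hB with h'' | h''
        · exact h''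
        · exact absurd (h'.trans (Eq.symm h'')) hinj
      have hpow : ∀ n : ℕ, g ^ (2 * n) • (Af : Set (Fin 8)) = Af ∧
          g ^ (2 * n + 1) • (Af : Set (Fin 8)) = Bf := by
        intro n
        induction n with
        | zero => exact ⟨by simp, by simpa using h'⟩
        | succ n ih =>
          have e1 : g ^ (2 * (n + 1)) = g * g ^ (2 * n + 1) := by
            rw [← pow_succ', show 2 * (n + 1) = 2 * n + 1 + 1 from by ring]
          have e2 : g ^ (2 * (n + 1) + 1) = g * g ^ (2 * (n + 1)) := by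
            rw [← pow_succ']
          have s1 : g ^ (2 * (n + 1)) • (Af : Set (Fin 8)) = Af := by
            rw [e1, mul_smul, ih.2, hBA]
          exact ⟨s1, by rw [e2, mul_smul, s1, h']⟩
      obtain ⟨k, hk⟩ : ∃ k, p = 2 * k + 1 := by
        rcases hp.eq_two_or_odd' with h2 | hodd
        · omega
        · exact hodd
      have h3 := (hpow k).2
      rw [← hk, hgp, one_smul] at h3
      exact hAB h3
  have hBB : g • (Bf : Set (Fin 8)) = Bf := by
    rcases hB with h'' | h''
    · exact absurd (hAA.trans (Eq.symm h'')) hinj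
    · exact h''
  have hAinv : ∀ x ∈ (Af : Set (Fin 8)), g x ∈ (Af : Set (Fin 8)) := by
    intro x hx
    have : g • x ∈ g • (Af : Set (Fin 8)) := Set.smul_mem_smul_set hx
    rwa [hAA] at this
  have hBinv : ∀ x ∈ (Bf : Set (Fin 8)), g x ∈ (Bf : Set (Fin 8)) := by
    intro x hx
    have : g • x ∈ g • (Bf : Set (Fin 8)) := Set.smul_mem_smul_set hx
    rwa [hBB] at this
  have hA3 : (Af : Set (Fin 8)).ncard < p := by
    rw [Set.ncard_coe_finset]
    have : Af.card = 3 := by decide +kernel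
    omega
  have hB3 : (Bf : Set (Fin 8)).ncard < p := by
    rw [Set.ncard_coe_finset]
    have : Bf.card = 3 := by decide +kernel
    omega
  have hfixA := hPINV (Fin 8) g p hp hgp (Af : Set (Fin 8)) hAinv hA3
  have hfixB := hPINV (Fin 8) g p hp hgp (Bf : Set (Fin 8)) hBinv hB3
  apply Equiv.ext
  intro x
  rw [Perm.one_apply]
  rcases cover x with h | h | rfl | rfl
  · exact hfixA x (Finset.mem_coe.2 h)
  · exact hfixB x (Finset.mem_coe.2 h)
  · exact h6
  · exact h7

theorem main : Cfsg.Agent.Lib.Helper96.HallDStmt.X8' := by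
  classical
  intro hPINV π h2 h3
  refine ⟨K₀.subgroupOf (alternatingGroup (Fin 8)), ?_, ?_⟩
  · intro p hp hdvd
    by_cases hp5 : 5 ≤ p
    · exfalso
      haveI : Fact p.Prime := ⟨hp⟩
      obtain ⟨g, hg⟩ := exists_prime_orderOf_dvd_card' p hdvd
      have hgK : ((g : ↥(alternatingGroup (Fin 8))) : Perm (Fin 8)) ∈ K₀ :=
        Subgroup.mem_subgroupOf.1 g.2
      have hgp : ((g : ↥(alternatingGroup (Fin 8))) : Perm (Fin 8)) ^ p = 1 := by
        have h1 : g ^ p = 1 := by rw [← hg]; exact pow_orderOf_eq_one g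
        have h2' := congrArg (fun t : ↥(K₀.subgroupOf (alternatingGroup (Fin 8))) =>
          ((t : ↥(alternatingGroup (Fin 8))) : Perm (Fin 8))) h1
        simpa using h2'
      have h1 := eq_one_of_mem hPINV _ hgK p hp hp5 hgp
      have hg1 : g = 1 := by
        apply Subtype.ext; apply Subtype.ext; exact h1
      rw [hg1, orderOf_one] at hg
      exact hp.one_lt.ne hg
    · have hp2 := hp.two_le
      have hcases : p = 2 ∨ p = 3 ∨ p = 4 := by omega
      rcases hcases with rfl | rfl | rfl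
      · exact h2
      · exact h3
      · exact absurd hp (by decide)
  · intro Δ hΔ
    set D : Finset (Fin 8) := Δ.toFinset with hD
    have hDΔ : (D : Set (Fin 8)) = Δ := Set.coe_toFinset Δ
    have hDc : D.card = 4 := by rw [← hΔ, Set.ncard_eq_toFinset_card']
    obtain ⟨g, hgm, h1, h2'⟩ :=
      brute D (Finset.mem_powersetCard.2 ⟨Finset.subset_univ _, hDc⟩)
    have hgK : g ∈ K₀ ∧ Perm.sign g = 1 := by
      simp only [List.mem_cons, List.mem_nil_iff, or_false] at hgm
      rcases hgm with rfl | rfl | rfl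
      exacts [⟨u_mem, hu⟩, ⟨u'_mem, hu'⟩, ⟨v_mem, hv⟩]
    refine ⟨⟨g, Perm.mem_alternatingGroup.2 hgK.2⟩, Subgroup.mem_subgroupOf.2 hgK.1, ?_, ?_⟩
    · show g • Δ ≠ Δ
      rw [← hDΔ, smul_coe]
      intro h
      exact h1 (Finset.coe_injective h)
    · show g • Δ ≠ Δᶜ
      rw [← hDΔ, smul_coe, ← Finset.coe_compl]
      intro h
      exact h2' (Finset.coe_injective h)

end Cfsg.Agent.Lib.Helper1.HDX8
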