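import Mathlib
import Cfsg.Agent.Lib.Helper26.J3Stmt

set_option autoImplicit false

/-! Piece ZF2 of S3366: `Z = Z(R)` is central in `X`.  `Z` is normal of order 3, so squares
centralize it; `R` centralizes it; every element of `SL(2,3)` is a product of two squares. -/

namespace Cfsg.Agent.Lib.Helper1.J3ZF2

open Cfsg.Agent.Lib.Helper26.J3Stmt

universe u

set_option maxRecDepth 100000 in
theorem sq : ∀ g : SL, ∃ a b : SL, g = a * a * (b * b) := by decide +kernel

theorem main : Cfsg.Agent.Lib.Helper26.J3Stmt.ZF2.{u} := by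
  intro X _ hH z hz x
  obtain ⟨hfin, hES, hR27, hexp, ⟨e⟩, -, -⟩ := hH
  have := hfin
  have hRn : (R X).Normal := Cfsg.pCore_normal 3 X
  have hmem : ∀ y : X, y ∈ Zc X ↔ y ∈ R X ∧ ∀ r ∈ R X, r * y = y * r := by
    intro y
    unfold Zc
    rw [Subgroup.mem_map]
    constructor
    · rintro ⟨c, hc, rfl⟩
      refine ⟨c.2, fun r hr => ?_⟩
      have := Subgroup.mem_center_iff.mp hc ⟨r, hr⟩
      exact congrArg Subtype.val this
    · rintro ⟨hy, hc⟩
      refine ⟨⟨y, hy⟩, ?_, rfl⟩
      rw [Subgroup.mem_center_iff]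
      intro g
      exact Subtype.ext (hc g.1 g.2)
  have hcard : Nat.card (Zc X) = 3 := by
    unfold Zc
    rw [Subgroup.card_subtype]
    exact hES.2
  have hconj : ∀ (y : X) (c : X), c ∈ Zc X → y * c * y⁻¹ ∈ Zc X := by
    intro y c hc
    rw [hmem] at hc ⊢
    refine ⟨hRn.conj_mem c hc.1 y, fun r hr => ?_⟩
    have h1 := hc.2 (y⁻¹ * r * y) (by simpa using hRn.conj_mem r hr y⁻¹)
    calc r * (y * c * y⁻¹) = y * ((y⁻¹ * r * y) * c) * y⁻¹ := by group
      _ = y * (c * (y⁻¹ * r * y)) * y⁻¹ := by rw [h1]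
      _ = (y * c * y⁻¹) * r := by group
  have hsq : ∀ (y : X) (c : X), c ∈ Zc X → (y * y) * c = c * (y * y) := by
    intro y c hc
    by_cases hc1 : c = 1
    · rw [hc1]
      simp
    have hc3 : c ^ 3 = 1 := hexp c ((hmem c).mp hc).1
    have hle : Subgroup.zpowers c ≤ Zc X := by
      rw [Subgroup.zpowers_le]
      exact hc
    have hord : orderOf c = 3 := by
      have : Fact (Nat.Prime 3) := ⟨by norm_num⟩
      exact orderOf_eq_prime hc3 hc1
    have heq : Subgroup.zpowers c = Zc X := by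
      apply Subgroup.eq_of_le_of_card_ge hle
      rw [hcard, Nat.card_zpowers, hord]
    have hy : y * c * y⁻¹ ∈ Subgroup.zpowers c := by
      rw [heq]
      exact hconj y c hc
    rw [← mem_powers_iff_mem_zpowers] at hy
    obtain ⟨k, hk⟩ := hy
    have hk' : y * c = c ^ k * y := by
      have : c ^ k = y * c * y⁻¹ := hk
      rw [this]
      group
    have h2 : y * c ^ k = (c ^ k) ^ k * y := by
      have h4 : y * c ^ k * y⁻¹ = (y * c * y⁻¹) ^ k := by rw [conj_pow]
      have h5 : c ^ k = y * c * y⁻¹ := hk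
      rw [← h5] at h4
      rw [← h4]
      group
    have h3 : (c ^ k) ^ k = c := by
      rw [← pow_mul]
      have hk3 : ¬ 3 ∣ k := by
        intro hdiv
        obtain ⟨m, rfl⟩ := hdiv
        have h5 : c ^ (3 * m) = y * c * y⁻¹ := hk
        rw [pow_mul, hc3, one_pow] at h5
        apply hc1
        have h6 : c = y⁻¹ * (y * c * y⁻¹) * y := by group
        rw [h6, ← h5]
        group
      have h7 : k * k % 3 = 1 := by
        have h8 : k % 3 = 1 ∨ k % 3 = 2 := by omega
        rcases h8 with h | h <;> simp [Nat.mul_mod, h]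
      rw [pow_eq_pow_mod (k * k) hc3, h7, pow_one]
    calc y * y * c = y * (y * c) := by group
      _ = y * (c ^ k * y) := by rw [hk']
      _ = (y * c ^ k) * y := by group
      _ = (c ^ k) ^ k * y * y := by rw [h2]
      _ = c * (y * y) := by rw [h3, mul_assoc]
  have hRc : ∀ r ∈ R X, ∀ c ∈ Zc X, r * c = c * r :=
    fun r hr c hc => ((hmem c).mp hc).2 r hr
  obtain ⟨a, b, hab⟩ := sq (e (QuotientGroup.mk x))
  obtain ⟨a', ha'⟩ := QuotientGroup.mk_surjective (e.symm a)
  obtain ⟨b', hb'⟩ := QuotientGroup.mk_surjective (e.symm b)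
  have hx : (QuotientGroup.mk (a' * a' * (b' * b')) : X ⧸ Cfsg.pCore 3 X) = QuotientGroup.mk x := by
    apply e.injective
    rw [hab, QuotientGroup.mk_mul, QuotientGroup.mk_mul, QuotientGroup.mk_mul, ha', hb']
    simp
  have hr : (a' * a' * (b' * b'))⁻¹ * x ∈ R X := QuotientGroup.eq.mp hx
  have hxe : x = a' * a' * (b' * b') * ((a' * a' * (b' * b'))⁻¹ * x) := by group
  have h1 := hsq a' z hz
  have h2 := hsq b' z hz
  have h3 := hRc _ hr z hz
  rw [hxe]
  generalize (a' * a' * (b' * b'))⁻¹ * x = r at h3 ⊢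
  calc a' * a' * (b' * b') * r * z = a' * a' * (b' * b') * (r * z) := by group
    _ = a' * a' * (b' * b') * (z * r) := by rw [h3]
    _ = a' * a' * ((b' * b') * z) * r := by group
    _ = a' * a' * (z * (b' * b')) * r := by rw [h2]
    _ = (a' * a' * z) * (b' * b') * r := by group
    _ = (z * (a' * a')) * (b' * b') * r := by rw [h1]
    _ = z * (a' * a' * (b' * b') * r) := by group

end Cfsg.Agent.Lib.Helper1.J3ZF2
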