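import Mathlib
import Cfsg.Agent.Lib.Helper68.M11UStmt

/-!
# S0420, piece CONJCOSET: if `q` normalizes the finite subgroup `P` and centralizes no
non-trivial element of it, then every element of the coset `P q` is conjugate to `q` under `P`.
-/

set_option autoImplicit false

namespace Cfsg.Agent.Lib.Helper1.MUCONJCOSET

open Cfsg Cfsg.Agent.Lib.Helper68.M11UStmt Cfsg.Agent.Lib.Helper92.M11Stmt

universe u

/-- [CONJCOSET] -/
theorem main : ConjCoset.{u} := by
  intro G _ _ P q hnorm hcent p hp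
  let φ : P → P := fun x => ⟨(x : G) * (q * (x : G)⁻¹ * q⁻¹),
    P.mul_mem x.2 (hnorm _ (P.inv_mem x.2))⟩
  have hinj : Function.Injective φ := by
    intro x x' h
    have h1 : (x : G) * (q * (x : G)⁻¹ * q⁻¹) = (x' : G) * (q * (x' : G)⁻¹ * q⁻¹) :=
      congrArg Subtype.val h
    have h2 : q * ((x' : G)⁻¹ * (x : G)) = ((x' : G)⁻¹ * (x : G)) * q := by
      have h3 : (x : G) * q * (x : G)⁻¹ = (x' : G) * q * (x' : G)⁻¹ := by
        have h4 := congrArg (fun z => z * q) h1
        simp only [mul_assoc, inv_mul_cancel, mul_one] at h4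
        simpa [mul_assoc] using h4
      calc q * ((x' : G)⁻¹ * (x : G))
          = (x' : G)⁻¹ * ((x' : G) * q * (x' : G)⁻¹) * (x : G) := by group
        _ = (x' : G)⁻¹ * ((x : G) * q * (x : G)⁻¹) * (x : G) := by rw [h3]
        _ = ((x' : G)⁻¹ * (x : G)) * q := by group
    have h5 := hcent _ (P.mul_mem (P.inv_mem x'.2) x.2) h2
    apply Subtype.ext
    calc (x : G) = (x' : G) * ((x' : G)⁻¹ * (x : G)) := by group
      _ = (x' : G) := by rw [h5, mul_one]
  obtain ⟨x, hx⟩ := (Finite.injective_iff_surjective.mp hinj) ⟨p, hp⟩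
  refine ⟨x, x.2, ?_⟩
  have h1 : (x : G) * (q * (x : G)⁻¹ * q⁻¹) = p := congrArg Subtype.val hx
  rw [← h1]
  group

end Cfsg.Agent.Lib.Helper1.MUCONJCOSET
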