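import Mathlib
import Cfsg.Agent.Lib.Helper68.M11UStmt

/-!
# S0420, piece MONO: the sum of a character over a subgroup `H` is `|H|` times the dimension of
the space of `H`-fixed vectors, and this number decreases with `H`.
-/

set_option autoImplicit false

namespace Cfsg.Agent.Lib.Helper1.MUMONO

open Cfsg Cfsg.Agent.Lib.Helper68.M11UStmt Cfsg.Agent.Lib.Helper92.M11Stmt

universe u

/-- the sum of a character over a subgroup -/
theorem sum_char_eq {G : Type u} [Group G] [Finite G] {d : ℕ}
    (ρ : Representation ℂ G (Fin d → ℂ)) (H : Subgroup G) :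
    (∑ᶠ h : H, ρ.character (h : G)) = (Nat.card H : ℂ) *
      (Module.finrank ℂ (Representation.invariants (ρ.comp H.subtype)) : ℕ) := by
  classical
  have : Fintype H := Fintype.ofFinite H
  have hne : (Nat.card H : ℂ) ≠ 0 := by exact_mod_cast Nat.card_pos.ne'
  have : Invertible (Nat.card H : ℂ) := invertibleOfNonzero hne
  have h := Representation.card_inv_mul_sum_char_eq_finrank (ρ.comp H.subtype)
  rw [finsum_eq_sum_of_fintype, ← h, ← mul_assoc, mul_inv_cancel₀ hne, one_mul]
  rfl

/-- the fixed vectors of a bigger subgroup are fixed by a smaller one -/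
theorem invariants_mono {G : Type u} [Group G] {d : ℕ}
    (ρ : Representation ℂ G (Fin d → ℂ)) {H K : Subgroup G} (hHK : H ≤ K) :
    Representation.invariants (ρ.comp K.subtype) ≤
      Representation.invariants (ρ.comp H.subtype) := by
  intro v hv
  rw [Representation.mem_invariants] at hv ⊢
  intro h
  exact hv ⟨(h : G), hHK h.2⟩

/-- [MONO] -/
theorem main : Mono.{u} := by
  intro G _ _ χ hχ H K hHK
  obtain ⟨d, ρ, rfl⟩ := hχ
  exact ⟨_, _, Submodule.finrank_mono (invariants_mono ρ hHK), sum_char_eq ρ H, sum_char_eq ρ K⟩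

end Cfsg.Agent.Lib.Helper1.MUMONO
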