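import Mathlib
import Cfsg.Agent.Lib.Helper68.M11UStmt
import Cfsg.Agent.Lib.Helper1.MUMONO

/-!
# S0420, piece FIXVEC: two subgroups `H₁, H₂ ≥ K` whose spaces of fixed vectors are too big for
the space of `K`-fixed vectors fix a common non-zero vector; if the character has no trivial
constituent, they do not generate `G`.
-/

set_option autoImplicit false

namespace Cfsg.Agent.Lib.Helper1.MUFIXVEC

open Cfsg Cfsg.Agent.Lib.Helper68.M11UStmt Cfsg.Agent.Lib.Helper92.M11Stmt
open Cfsg.Agent.Lib.Helper1.MUMONO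

universe u

/-- the dimension of the fixed space from the sum of the character -/
theorem finrank_eq_of_sum {G : Type u} [Group G] [Finite G] {d : ℕ}
    (ρ : Representation ℂ G (Fin d → ℂ)) (H : Subgroup G) (n : ℕ)
    (h : (∑ᶠ h : H, ρ.character (h : G)) = (Nat.card H : ℂ) * n) :
    Module.finrank ℂ (Representation.invariants (ρ.comp H.subtype)) = n := by
  have hne : (Nat.card H : ℂ) ≠ 0 := by exact_mod_cast Nat.card_pos.ne'
  rw [sum_char_eq ρ H] at h
  exact_mod_cast mul_left_cancel₀ hne h

/-- [FIXVEC] -/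
theorem main : FixVec.{u} := by
  intro G _ _ χ hχ hsum H₁ H₂ K n₁ n₂ m hK1 hK2 h1 h2 hK hlt htop
  obtain ⟨d, ρ, rfl⟩ := hχ
  classical
  have hW1 := finrank_eq_of_sum ρ H₁ n₁ h1
  have hW2 := finrank_eq_of_sum ρ H₂ n₂ h2
  have hU := finrank_eq_of_sum ρ K m hK
  set W₁ := Representation.invariants (ρ.comp H₁.subtype) with hW₁def
  set W₂ := Representation.invariants (ρ.comp H₂.subtype) with hW₂def
  set U := Representation.invariants (ρ.comp K.subtype) with hUdef
  have hle1 : W₁ ≤ U := invariants_mono ρ hK1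
  have hle2 : W₂ ≤ U := invariants_mono ρ hK2
  have hdim := Submodule.finrank_sup_add_finrank_inf_eq W₁ W₂
  have hsup : Module.finrank ℂ (W₁ ⊔ W₂ : Submodule ℂ (Fin d → ℂ)) ≤ m := by
    rw [← hU]
    exact Submodule.finrank_mono (sup_le hle1 hle2)
  have hinf : 0 < Module.finrank ℂ (W₁ ⊓ W₂ : Submodule ℂ (Fin d → ℂ)) := by omega
  -- a common non-zero fixed vector
  have hne : (W₁ ⊓ W₂ : Submodule ℂ (Fin d → ℂ)) ≠ ⊥ := by
    intro h
    rw [h, finrank_bot] at hinf
    exact lt_irrefl 0 hinf
  obtain ⟨v, hv, hv0⟩ := (Submodule.ne_bot_iff _).mp hne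
  have hv1 : ∀ g : H₁, ρ (g : G) v = v := (Representation.mem_invariants _ v).mp hv.1
  have hv2 : ∀ g : H₂, ρ (g : G) v = v := (Representation.mem_invariants _ v).mp hv.2
  -- the stabilizer of `v`
  let St : Subgroup G :=
    { carrier := {g | ρ g v = v}
      mul_mem' := by
        intro a b ha hb
        show ρ (a * b) v = v
        rw [map_mul, Module.End.mul_apply]
        have hb' : ρ b v = v := hb
        have ha' : ρ a v = v := ha
        rw [hb', ha']
      one_mem' := by
        show ρ 1 v = v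
        rw [map_one]; rfl
      inv_mem' := by
        intro a ha
        show ρ a⁻¹ v = v
        have ha' : ρ a v = v := ha
        calc ρ a⁻¹ v = ρ a⁻¹ (ρ a v) := by rw [ha']
          _ = (ρ a⁻¹ * ρ a) v := rfl
          _ = v := by rw [← map_mul, inv_mul_cancel, map_one]; rfl }
  have hSt1 : H₁ ≤ St := fun g hg => hv1 ⟨g, hg⟩
  have hSt2 : H₂ ≤ St := fun g hg => hv2 ⟨g, hg⟩
  have hSt : St = ⊤ := by
    rw [eq_top_iff, ← htop]
    exact sup_le hSt1 hSt2
  have hvG : v ∈ Representation.invariants ρ := by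
    rw [Representation.mem_invariants]
    intro g
    have : g ∈ St := by rw [hSt]; exact Subgroup.mem_top g
    exact this
  -- but the space of `G`-fixed vectors is zero
  have : Fintype G := Fintype.ofFinite G
  have hneG : (Nat.card G : ℂ) ≠ 0 := by exact_mod_cast Nat.card_pos.ne'
  have : Invertible (Nat.card G : ℂ) := invertibleOfNonzero hneG
  have hG := Representation.card_inv_mul_sum_char_eq_finrank ρ
  rw [finsum_eq_sum_of_fintype] at hsum
  rw [hsum, mul_zero] at hG
  have hG0 : Module.finrank ℂ (Representation.invariants ρ) = 0 := by exact_mod_cast hG.symm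
  have hbot : Representation.invariants ρ = ⊥ := Submodule.finrank_eq_zero.mp hG0
  rw [hbot, Submodule.mem_bot] at hvG
  exact hv0 hvG

end Cfsg.Agent.Lib.Helper1.MUFIXVEC
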