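import Mathlib
import Cfsg.Agent.Lib.Helper68.M11UStmt

/-!
# S0420, piece SUMPROD: sums over the product `P Q` of two subgroups, `Q` normalizing `P`,
`P ∩ Q = 1`.
-/

set_option autoImplicit false

namespace Cfsg.Agent.Lib.Helper1.MUSUMPROD

open Cfsg Cfsg.Agent.Lib.Helper68.M11UStmt Cfsg.Agent.Lib.Helper92.M11Stmt
open scoped Pointwise

universe u

/-- the elementwise normalizing condition gives `Q ≤ N(P)` -/
theorem le_normalizer_of_normalizes {G : Type u} [Group G] (P Q : Subgroup G)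
    (h : Normalizes Q P) : Q ≤ Subgroup.normalizer (P : Set G) := by
  intro q hq
  rw [Subgroup.mem_normalizer_iff]
  intro x
  constructor
  · intro hx
    exact h q hq x hx
  · intro hx
    have h1 := h q⁻¹ (Q.inv_mem hq) _ hx
    have h2 : q⁻¹ * (q * x * q⁻¹) * q⁻¹⁻¹ = x := by group
    rw [h2] at h1
    exact h1

/-- the bijection `P × Q ≃ P ⊔ Q` -/
theorem exists_equiv {G : Type u} [Group G] (P Q : Subgroup G) (hnorm : Normalizes Q P)
    (hint : ∀ x : G, x ∈ P → x ∈ Q → x = 1) :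
    ∃ e : P × Q ≃ (P ⊔ Q : Subgroup G), ∀ a : P × Q, ((e a : (P ⊔ Q : Subgroup G)) : G) =
      (a.1 : G) * (a.2 : G) := by
  have hle := le_normalizer_of_normalizes P Q hnorm
  have hcoe : ((P ⊔ Q : Subgroup G) : Set G) = (P : Set G) * (Q : Set G) :=
    Subgroup.coe_mul_of_right_le_normalizer_left P Q hle
  let φ : P × Q → (P ⊔ Q : Subgroup G) := fun a => ⟨(a.1 : G) * (a.2 : G),
    (P ⊔ Q).mul_mem (Subgroup.mem_sup_left a.1.2) (Subgroup.mem_sup_right a.2.2)⟩
  have hinj : Function.Injective φ := by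
    rintro ⟨p, q⟩ ⟨p', q'⟩ h
    have h1 : (p : G) * (q : G) = (p' : G) * (q' : G) := congrArg Subtype.val h
    have h2 : (p' : G)⁻¹ * (p : G) = (q' : G) * (q : G)⁻¹ := by
      calc (p' : G)⁻¹ * (p : G) = (p' : G)⁻¹ * ((p : G) * (q : G)) * (q : G)⁻¹ := by group
        _ = (p' : G)⁻¹ * ((p' : G) * (q' : G)) * (q : G)⁻¹ := by rw [h1]
        _ = (q' : G) * (q : G)⁻¹ := by group
    have h3 : (p' : G)⁻¹ * (p : G) = 1 :=
      hint _ (P.mul_mem (P.inv_mem p'.2) p.2) (h2 ▸ Q.mul_mem q'.2 (Q.inv_mem q.2))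
    have hp : (p : G) = (p' : G) := by
      calc (p : G) = (p' : G) * ((p' : G)⁻¹ * (p : G)) := by group
        _ = (p' : G) := by rw [h3, mul_one]
    have hq : (q : G) = (q' : G) := by
      rw [hp] at h1
      exact mul_left_cancel h1
    exact Prod.ext (Subtype.ext hp) (Subtype.ext hq)
  have hsurj : Function.Surjective φ := by
    rintro ⟨x, hx⟩
    have hx' : x ∈ (P : Set G) * (Q : Set G) := by
      rw [← hcoe]; exact hx
    obtain ⟨p, hp, q, hq, rfl⟩ := Set.mem_mul.mp hx'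
    exact ⟨(⟨p, hp⟩, ⟨q, hq⟩), rfl⟩
  exact ⟨Equiv.ofBijective φ ⟨hinj, hsurj⟩, fun a => rfl⟩

/-- [SUMPROD] -/
theorem main : SumProd.{u} := by
  intro G _ _ P Q hnorm hint
  obtain ⟨e, he⟩ := exists_equiv P Q hnorm hint
  refine ⟨?_, ?_⟩
  · rw [← Nat.card_congr e, Nat.card_prod]
  · intro f
    rw [← finsum_comp_equiv e]
    have h1 : (fun a : P × Q => f ((e a : (P ⊔ Q : Subgroup G)) : G)) =
        fun a : P × Q => f ((a.1 : G) * (a.2 : G)) := by
      funext a
      rw [he a]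
    rw [h1]
    exact finsum_curry (fun a : P × Q => f ((a.1 : G) * (a.2 : G))) (Set.toFinite _)

end Cfsg.Agent.Lib.Helper1.MUSUMPROD
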