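import Mathlib
import Cfsg.Prelude.Def_Transfer
import Cfsg.Agent.Lib.Helper1.PDStmt

/-!
# S4020: final assembly from `CycQ8` and `ExpAb`.
-/

set_option autoImplicit false

namespace Cfsg.Agent.Lib.Helper1.PDAsm

open Cfsg.Agent.Lib.Helper1.PDStmt

universe u

theorem final (hC : CycQ8.{u}) (hE : ExpAb.{u}) {G : Type u} [Group G] [Finite G]
    (hD : ∀ p : ℕ, p.Prime → ∀ H K : Subgroup G, IsPGroup p H → IsPGroup p K →
      Nat.card H = Nat.card K → ∃ g : G, K = H.map (MulAut.conj g).toMonoidHom)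
    {p : ℕ} [Fact p.Prime] (P : Sylow p G) :
    IsCyclic P ∨ Cfsg.IsElementaryAbelian p (P : Subgroup G) ∨
      Nonempty ((P : Subgroup G) ≃* QuaternionGroup 2) := by
  by_cases h : ∃ x ∈ (P : Subgroup G), x ^ p ≠ 1
  · rcases hC G hD p P h with h1 | h1
    · exact Or.inl h1
    · exact Or.inr (Or.inr h1)
  · push Not at h
    exact Or.inr (Or.inl ⟨⟨⟨fun a b => Subtype.ext (hE G hD p P h a.1 a.2 b.1 b.2)⟩⟩, h⟩)

end Cfsg.Agent.Lib.Helper1.PDAsm
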