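import Mathlib
import Cfsg.Agent.Lib.Helper78.PRQDefs
import Cfsg.Agent.Lib.Helper78.PRQC1
import Cfsg.Agent.Lib.Helper82.PRQPkg
import Cfsg.Agent.Lib.Helper82.PRQThree
import Cfsg.Agent.Lib.Helper1.PRQSylow
import Cfsg.Agent.Lib.CT.NormOne
import Cfsg.Agent.Lib.CT.Ops
import Cfsg.Agent.Lib.CT.Orth
import Cfsg.Agent.Lib.CT.PairCount
import Cfsg.Agent.Lib.CT.Kernel

/-!
# S0998 piece SEVEN: a simple group of order `21 * 2 ^ b` has `b ≤ 3`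
-/

set_option autoImplicit false

namespace Cfsg.Agent.Lib.Helper1.PRQSeven

open Cfsg Cfsg.Agent.Lib.Helper78.PRQDefs Cfsg.Agent.Lib.CT.Wedderburn
  Cfsg.Agent.Lib.Helper17.ExcMain
open scoped ComplexConjugate

universe u

/-! ### Numerics -/

theorem two_or_six (b d : ℕ) (hd : d ∣ 3 * 2 ^ b) (h4 : d % 4 = 2) : d = 2 ∨ d = 6 := by
  obtain ⟨m, rfl⟩ : ∃ m, d = 2 * m := ⟨d / 2, by omega⟩
  have hm : m % 2 = 1 := by omega
  have hcop : Nat.Coprime m (2 ^ b) := by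
    apply Nat.Coprime.pow_right
    rw [Nat.coprime_comm, Nat.Prime.coprime_iff_not_dvd Nat.prime_two]
    omega
  have h1 : m ∣ 3 * 2 ^ b := Dvd.dvd.trans ⟨2, by ring⟩ hd
  have h2 : m ∣ 3 := (Nat.Coprime.dvd_mul_right hcop).mp h1
  have h3 : m ≤ 3 := Nat.le_of_dvd (by norm_num) h2
  interval_cases m <;> omega

theorem num3 (b da db : ℕ) (εa εb : ℤ) (ha2 : 2 ∣ da) (hb2 : 2 ∣ db)
    (had : da ∣ 3 * 2 ^ b) (hbd : db ∣ 3 * 2 ^ b)
    (hεa : εa = 1 ∨ εa = -1) (hεb : εb = 1 ∨ εb = -1)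
    (hca : (da : ℤ) ≡ εa [ZMOD 7]) (hcb : (db : ℤ) ≡ εb [ZMOD 7])
    (hrel : εa * da + εb * db = 2) :
    (da = 6 ∧ εa = -1 ∧ db = 8 ∧ εb = 1) ∨ (da = 8 ∧ εa = 1 ∧ db = 6 ∧ εb = -1) := by
  unfold Int.ModEq at hca hcb
  have h4 : da % 4 = 2 ∨ db % 4 = 2 := by
    rcases hεa with rfl | rfl <;> rcases hεb with rfl | rfl <;> omega
  rcases h4 with h4 | h4
  · rcases two_or_six b da had h4 with rfl | rfl
    · rcases hεa with rfl | rfl <;> omega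
    · rcases hεa with rfl | rfl
      · omega
      · left
        rcases hεb with rfl | rfl <;> omega
  · rcases two_or_six b db hbd h4 with rfl | rfl
    · rcases hεb with rfl | rfl <;> omega
    · rcases hεb with rfl | rfl
      · omega
      · right
        rcases hεa with rfl | rfl <;> omega

/-! ### The configuration -/

/-- The character-theoretic configuration for a Sylow 7-subgroup `P`. -/
structure Cfg {G : Type u} [Group G] (P : Subgroup G) (τ χ6 χ8 θ1 θ2 : IrrCharacter G) :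
    Prop where
  hτ : ∀ g : G, (τ : G → ℂ) g = 1
  d6 : charDegree (χ6 : G → ℂ) = 6
  d8 : charDegree (χ8 : G → ℂ) = 8
  d1 : charDegree (θ1 : G → ℂ) = 3
  d2 : charDegree (θ2 : G → ℂ) = 3
  ne : θ1 ≠ θ2
  v6 : ∀ u : G, u ∈ P → u ≠ 1 → (χ6 : G → ℂ) u = -1
  v8 : ∀ u : G, u ∈ P → u ≠ 1 → (χ8 : G → ℂ) u = 1
  agree : ∀ g : G, ¬ 7 ∣ orderOf g → (θ1 : G → ℂ) g = (θ2 : G → ℂ) g
  rel : ∀ g : G, ¬ 7 ∣ orderOf g →
    (θ1 : G → ℂ) g = 1 + (χ8 : G → ℂ) g - (χ6 : G → ℂ) g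
  out : ∀ ψ : IrrCharacter G, ψ ≠ τ → ψ ≠ χ6 → ψ ≠ χ8 → ψ ≠ θ1 → ψ ≠ θ2 →
    ∀ u : G, u ∈ P → u ≠ 1 → (ψ : G → ℂ) u = 0

theorem exists_cfg {G : Type u} [Group G] [Finite G] [IsSimpleGroup G] (hG : ¬ IsCyclic G)
    (b : ℕ) (hG' : Nat.card G = 7 * 3 * 2 ^ b) [Fact (Nat.Prime 7)] (P : Sylow 7 G) :
    Nat.card (P : Subgroup G) = 7 ∧
    ∃ τ χ6 χ8 θ1 θ2 : IrrCharacter G, Cfg (P : Subgroup G) τ χ6 χ8 θ1 θ2 := by
  classical
  have h7 : Nat.Prime 7 := by norm_num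
  have h3 : Nat.Prime 3 := by norm_num
  have h2 : Nat.Prime 2 := Nat.prime_two
  obtain ⟨hcP, hC, e, he, he1, hep, -⟩ := Cfsg.Agent.Lib.Helper1.PRQSylow.sylow_data hG 7 2 3 b
    h7 h2 h3 (by norm_num) (by norm_num) (by norm_num) hG' P
  obtain ⟨X, Y, εX, ε, pkg⟩ :=
    Cfsg.Agent.Lib.Helper82.PRQPkg.exists_pkg 7 (by norm_num) P hcP hC e he
  obtain ⟨c1a, c1b, c1c, c1d⟩ := Cfsg.Agent.Lib.Helper78.PRQC1.c1 hG 7 2 3 b h7 h2 h3
    (by norm_num) (by norm_num) (by norm_num) hG' (by norm_num) (by norm_num)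
    (P : Subgroup G) e he1 hep X Y εX ε pkg
  have he3 : e = 3 ∧ ε = 1 := by
    rcases c1d with ⟨h1, h2⟩ | ⟨h1, h2⟩
    · exact ⟨h2, h1⟩
    · exfalso
      have h4 : e = 4 := by omega
      rw [h4] at hep
      revert hep
      decide
  obtain ⟨rfl, rfl⟩ := he3
  have hcX : X.card = 3 := pkg.cardX
  have hcY : Y.card = 2 := by rw [pkg.cardY]
  have hτ : ∀ g, ((trivIrr G : IrrCharacter G) : G → ℂ) g = 1 := fun g => trivIrr_apply G g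
  have hτX : trivIrr G ∈ X := c1a _ hτ
  have hcE : (X.erase (trivIrr G)).card = 2 := by rw [Finset.card_erase_of_mem hτX, hcX]
  obtain ⟨χa, χb, hab, hE⟩ := Finset.card_eq_two.mp hcE
  have haE : χa ∈ X.erase (trivIrr G) := by rw [hE]; simp
  have hbE : χb ∈ X.erase (trivIrr G) := by rw [hE]; simp
  have haX : χa ∈ X := Finset.mem_of_mem_erase haE
  have hbX : χb ∈ X := Finset.mem_of_mem_erase hbE
  have haτ : χa ≠ trivIrr G := Finset.ne_of_mem_erase haE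
  have hbτ : χb ≠ trivIrr G := Finset.ne_of_mem_erase hbE
  have hXeq : X = {trivIrr G, χa, χb} := by rw [← Finset.insert_erase hτX, hE]
  obtain ⟨θ1, θ2, h12, hYeq⟩ := Finset.card_eq_two.mp hcY
  have h1Y : θ1 ∈ Y := by rw [hYeq]; simp
  have h2Y : θ2 ∈ Y := by rw [hYeq]; simp
  have hant : ¬ ∀ g, (χa : G → ℂ) g = 1 := fun h =>
    haτ (Cfsg.Agent.Lib.Helper78.PRQC1.eq_of_triv χa _ h hτ)
  have hbnt : ¬ ∀ g, (χb : G → ℂ) g = 1 := fun h =>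
    hbτ (Cfsg.Agent.Lib.Helper78.PRQC1.eq_of_triv χb _ h hτ)
  obtain ⟨ha2, had⟩ := c1c χa haX hant
  obtain ⟨hb2, hbd⟩ := c1c χb hbX hbnt
  have hdτ : charDegree ((trivIrr G : IrrCharacter G) : G → ℂ) = 1 :=
    charDegree_eq_of_apply_one (by rw [hτ 1]; simp)
  have hετ : εX (trivIrr G) = 1 := by
    have h1 := pkg.degX _ hτX
    rw [hdτ] at h1
    rcases pkg.signX _ hτX with h | h
    · exact h
    · rw [h] at h1
      exact absurd h1 (by decide)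
  have hrel1 := Cfsg.Agent.Lib.Helper78.PRQC1.rel_one h7 pkg θ1 h1Y
  rw [hXeq, Finset.sum_insert (by simp [haτ.symm, hbτ.symm]), Finset.sum_pair hab, hdτ, hετ,
    c1b θ1 h1Y] at hrel1
  have hnum := num3 b (charDegree (χa : G → ℂ)) (charDegree (χb : G → ℂ)) (εX χa) (εX χb)
    ha2 hb2 had hbd (pkg.signX χa haX) (pkg.signX χb hbX) (pkg.degX χa haX) (pkg.degX χb hbX)
    (by push_cast at hrel1; linarith)
  have key : ∃ χ6 χ8 : IrrCharacter G, χ6 ≠ trivIrr G ∧ χ8 ≠ trivIrr G ∧ χ6 ≠ χ8 ∧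
      X = {trivIrr G, χ6, χ8} ∧ charDegree (χ6 : G → ℂ) = 6 ∧ εX χ6 = -1 ∧
      charDegree (χ8 : G → ℂ) = 8 ∧ εX χ8 = 1 := by
    rcases hnum with ⟨h1, h2, h3, h4⟩ | ⟨h1, h2, h3, h4⟩
    · exact ⟨χa, χb, haτ, hbτ, hab, hXeq, h1, h2, h3, h4⟩
    · exact ⟨χb, χa, hbτ, haτ, hab.symm, by rw [hXeq, Finset.pair_comm], h3, h4, h1, h2⟩
  obtain ⟨χ6, χ8, h6τ, h8τ, h68, hX3, hd6, hε6, hd8, hε8⟩ := key
  have h6X : χ6 ∈ X := by rw [hX3]; simp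
  have h8X : χ8 ∈ X := by rw [hX3]; simp
  refine ⟨hcP, trivIrr G, χ6, χ8, θ1, θ2, ?_⟩
  refine ⟨hτ, hd6, hd8, c1b θ1 h1Y, c1b θ2 h2Y, h12, ?_, ?_, ?_, ?_, ?_⟩
  · intro u hu hu1
    have := pkg.valX χ6 h6X u hu hu1
    rw [this, hε6]
    norm_num
  · intro u hu hu1
    have := pkg.valX χ8 h8X u hu hu1
    rw [this, hε8]
    norm_num
  · intro g hg
    exact pkg.agreeY θ1 h1Y θ2 h2Y g hg
  · intro g hg
    have h1 := pkg.rel θ1 h1Y g hg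
    rw [hX3, Finset.sum_insert (by simp [h6τ.symm, h8τ.symm]), Finset.sum_pair h68, hετ, hε6,
      hε8, hτ g] at h1
    push_cast at h1
    linear_combination h1
  · intro ψ h1 h2 h3 h4 h5 u hu hu1
    apply pkg.vanish ψ _ _ u hu hu1
    · rw [hX3]
      simp [h1, h2, h3]
    · rw [hYeq]
      simp [h4, h5]

/-! ### Generic tools -/

theorem sum_split5 {α : Type*} [Fintype α] [DecidableEq α] {M : Type*} [AddCommMonoid M]
    (a b c d e : α) (hab : a ≠ b) (hac : a ≠ c) (had : a ≠ d) (hae : a ≠ e) (hbc : b ≠ c)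
    (hbd : b ≠ d) (hbe : b ≠ e) (hcd : c ≠ d) (hce : c ≠ e) (hde : d ≠ e) (f : α → M) :
    ∑ x, f x = f a + (f b + (f c + (f d + (f e +
      ∑ x ∈ Finset.univ.filter (fun x => x ≠ a ∧ x ≠ b ∧ x ≠ c ∧ x ≠ d ∧ x ≠ e), f x)))) := by
  have hS : (Finset.univ.filter (fun x => x ≠ a ∧ x ≠ b ∧ x ≠ c ∧ x ≠ d ∧ x ≠ e)) =
      ({a, b, c, d, e} : Finset α)ᶜ := by
    ext x
    simp
  rw [hS, ← Finset.sum_add_sum_compl ({a, b, c, d, e} : Finset α) f,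
    Finset.sum_insert (by simp [hab, hac, had, hae]),
    Finset.sum_insert (by simp [hbc, hbd, hbe]),
    Finset.sum_insert (by simp [hcd, hce]), Finset.sum_pair hde]
  simp only [add_assoc]

/-- Sum over a subgroup of order 7 of a function constant off the identity. -/
theorem sumP_of_const {G : Type u} [Group G] {P : Subgroup G} [Fintype P]
    (hP : Nat.card P = 7) (f : G → ℂ) (a : ℂ)
    (h : ∀ u : G, u ∈ P → u ≠ 1 → f u = a) : ∑ w : P, f (w : G) = f 1 + 6 * a := by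
  classical
  rw [← Finset.add_sum_erase Finset.univ _ (Finset.mem_univ (1 : P))]
  have h1 : ∑ w ∈ Finset.univ.erase (1 : P), f (w : G) =
      ∑ _w ∈ Finset.univ.erase (1 : P), a := by
    apply Finset.sum_congr rfl
    intro w hw
    exact h w w.2 (fun h1 => Finset.ne_of_mem_erase hw (Subtype.ext h1))
  rw [h1, Finset.sum_const, Finset.card_erase_of_mem (Finset.mem_univ _), Finset.card_univ,
    ← Nat.card_eq_fintype_card, hP]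
  simp

theorem apply_one {G : Type u} [Group G] (ψ : IrrCharacter G) :
    (ψ : G → ℂ) 1 = (charDegree (ψ : G → ℂ) : ℂ) :=
  (char_natCast_charDegree (isCharacter_of_irr ψ.2)).symm

/-- Nontrivial irreducible characters of a nonabelian simple group are faithful. -/
theorem faithful_aux {G : Type u} [Group G] [Finite G] [IsSimpleGroup G] (hG : ¬ IsCyclic G)
    (χ : IrrCharacter G) (hχ : ¬ ∀ g : G, (χ : G → ℂ) g = 1) (g : G)
    (hg : (χ : G → ℂ) g = (χ : G → ℂ) 1) : g = 1 := by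
  classical
  have hGfin : Fintype G := Fintype.ofFinite G
  obtain ⟨N, hN, hmem⟩ := Cfsg.Agent.Lib.CT.Kernel.exists_normal_ker (isCharacter_of_irr χ.2)
  rcases hN.eq_bot_or_eq_top with h | h
  · have : g ∈ N := (hmem g).mpr hg
    rw [h] at this
    exact Subgroup.mem_bot.mp this
  · exfalso
    have hall : ∀ x : G, (χ : G → ℂ) x = (charDegree (χ : G → ℂ) : ℂ) := by
      intro x
      rw [← apply_one χ]
      exact (hmem x).mp (by rw [h]; trivial)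
    have h3 := irr_sum_mul_inv χ.2 χ.2
    rw [if_pos rfl] at h3
    have h4 : ∑ x : G, (χ : G → ℂ) x * (χ : G → ℂ) x⁻¹ =
        (Nat.card G : ℂ) * ((charDegree (χ : G → ℂ) : ℂ) * (charDegree (χ : G → ℂ) : ℂ)) := by
      rw [Finset.sum_congr rfl (fun x _ => by rw [hall x, hall x⁻¹]), Finset.sum_const,
        Finset.card_univ, ← Nat.card_eq_fintype_card]
      simp
    rw [h4] at h3
    have hne : (Nat.card G : ℂ) ≠ 0 := Nat.cast_ne_zero.mpr Nat.card_pos.ne'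
    have h5 : ((charDegree (χ : G → ℂ) * charDegree (χ : G → ℂ) : ℕ) : ℂ) = ((1 : ℕ) : ℂ) := by
      push_cast
      have h6 : (Nat.card G : ℂ) *
          ((charDegree (χ : G → ℂ) : ℂ) * (charDegree (χ : G → ℂ) : ℂ)) =
          (Nat.card G : ℂ) * 1 := by rw [h3, mul_one]
      exact mul_left_cancel₀ hne h6
    have h6 : charDegree (χ : G → ℂ) * charDegree (χ : G → ℂ) = 1 := by exact_mod_cast h5
    have h7 : charDegree (χ : G → ℂ) = 1 := Nat.eq_one_of_mul_eq_one_right h6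
    exact hχ (Cfsg.Agent.Lib.Helper78.PRQC1.triv_of_charDegree_one hG χ h7)

/-! ### Consequences of the configuration -/

namespace Cfg

variable {G : Type u} [Group G] {P : Subgroup G} {τ χ6 χ8 θ1 θ2 : IrrCharacter G}

theorem dτ (h : Cfg P τ χ6 χ8 θ1 θ2) : charDegree (τ : G → ℂ) = 1 :=
  charDegree_eq_of_apply_one (by rw [h.hτ 1]; simp)

theorem distinct (h : Cfg P τ χ6 χ8 θ1 θ2) :
    τ ≠ χ6 ∧ τ ≠ χ8 ∧ τ ≠ θ1 ∧ τ ≠ θ2 ∧ χ6 ≠ χ8 ∧ χ6 ≠ θ1 ∧ χ6 ≠ θ2 ∧ χ8 ≠ θ1 ∧ χ8 ≠ θ2 := by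
  have e1 := h.dτ
  have e2 := h.d6
  have e3 := h.d8
  have e4 := h.d1
  have e5 := h.d2
  have key : ∀ ψ φ : IrrCharacter G, charDegree (ψ : G → ℂ) ≠ charDegree (φ : G → ℂ) → ψ ≠ φ :=
    fun ψ φ hne hh => hne (by rw [hh])
  refine ⟨key _ _ ?_, key _ _ ?_, key _ _ ?_, key _ _ ?_, key _ _ ?_, key _ _ ?_, key _ _ ?_,
    key _ _ ?_, key _ _ ?_⟩ <;> omega

theorem out7 [Finite G] (h : Cfg P τ χ6 χ8 θ1 θ2) (hP : Nat.card P = 7) (ψ : IrrCharacter G)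
    (h1 : ψ ≠ τ) (h2 : ψ ≠ χ6) (h3 : ψ ≠ χ8) (h4 : ψ ≠ θ1) (h5 : ψ ≠ θ2) :
    7 ∣ charDegree (ψ : G → ℂ) := by
  have := Cfsg.Agent.Lib.Helper82.PRQThree.dvd_degree_of_vanish P ψ (h.out ψ h1 h2 h3 h4 h5)
  rwa [hP] at this

theorem theta_sum [Fintype G] [Fintype (IrrCharacter G)] (h : Cfg P τ χ6 χ8 θ1 θ2) (u : G)
    (hu : u ∈ P) (hu1 : u ≠ 1) : (θ1 : G → ℂ) u + (θ2 : G → ℂ) u = -1 := by
  classical
  obtain ⟨n1, n2, n3, n4, n5, n6, n7, n8, n9⟩ := h.distinct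
  have h0 := Cfsg.Agent.Lib.CT.Orth.sum_apply_one_mul_of_ne_sum u hu1
  rw [sum_split5 τ χ6 χ8 θ1 θ2 n1 n2 n3 n4 n5 n6 n7 n8 n9 h.ne] at h0
  have hz : ∑ ψ ∈ Finset.univ.filter
      (fun ψ => ψ ≠ τ ∧ ψ ≠ χ6 ∧ ψ ≠ χ8 ∧ ψ ≠ θ1 ∧ ψ ≠ θ2),
      (ψ : G → ℂ) 1 * (ψ : G → ℂ) u = 0 := by
    apply Finset.sum_eq_zero
    intro ψ hψ
    obtain ⟨m1, m2, m3, m4, m5⟩ := (Finset.mem_filter.mp hψ).2
    rw [h.out ψ m1 m2 m3 m4 m5 u hu hu1, mul_zero]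
  rw [hz, apply_one τ, apply_one χ6, apply_one χ8, apply_one θ1, apply_one θ2, h.dτ, h.d6,
    h.d8, h.d1, h.d2, h.hτ u, h.v6 u hu hu1, h.v8 u hu hu1] at h0
  push_cast at h0
  linear_combination h0 / 3

theorem sum_theta [Fintype G] [Fintype (IrrCharacter G)] [Fintype P]
    (h : Cfg P τ χ6 χ8 θ1 θ2) (hP : Nat.card P = 7) :
    ∑ w : P, (θ1 : G → ℂ) w = 0 ∧ ∑ w : P, (θ2 : G → ℂ) w = 0 := by
  obtain ⟨m1, hm1⟩ :=
    Cfsg.Agent.Lib.CT.PairCount.char_sum_subgroup (isCharacter_of_irr θ1.2) P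
  obtain ⟨m2, hm2⟩ :=
    Cfsg.Agent.Lib.CT.PairCount.char_sum_subgroup (isCharacter_of_irr θ2.2) P
  have hs : ∑ w : P, ((θ1 : G → ℂ) w + (θ2 : G → ℂ) w) =
      ((θ1 : G → ℂ) 1 + (θ2 : G → ℂ) 1) + 6 * (-1) :=
    sumP_of_const hP (fun g => (θ1 : G → ℂ) g + (θ2 : G → ℂ) g) (-1)
      (fun u hu hu1 => h.theta_sum u hu hu1)
  rw [Finset.sum_add_distrib, hm1, hm2, apply_one θ1, apply_one θ2, h.d1, h.d2, hP] at hs
  have h3 : ((7 * m1 + 7 * m2 : ℕ) : ℂ) = ((0 : ℕ) : ℂ) := by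
    push_cast
    push_cast at hs
    linear_combination hs
  have h4 : 7 * m1 + 7 * m2 = 0 := by exact_mod_cast h3
  have h5 : m1 = 0 := by omega
  have h6 : m2 = 0 := by omega
  rw [hm1, hm2, h5, h6]
  simp

theorem decomp [Fintype G] [Fintype (IrrCharacter G)] [Fintype P]
    (h : Cfg P τ χ6 χ8 θ1 θ2) (hP : Nat.card P = 7) {Φ : G → ℂ} (hΦ : IsCharacter G Φ) :
    ∃ (c : IrrCharacter G → ℕ) (D : ℕ) (R : G → ℂ),
      (∀ ψ : IrrCharacter G, classInner Φ (ψ : G → ℂ) = c ψ) ∧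
      (∀ g, Φ g = c τ + (c χ6 * (χ6 : G → ℂ) g + (c χ8 * (χ8 : G → ℂ) g +
        (c θ1 * (θ1 : G → ℂ) g + (c θ2 * (θ2 : G → ℂ) g + R g))))) ∧
      charDegree Φ = c τ + 6 * c χ6 + 8 * c χ8 + 3 * c θ1 + 3 * c θ2 + 7 * D ∧
      (∑ w : P, Φ w = 7 * c τ + 14 * c χ8 + 7 * D) ∧
      (D = 0 → ∀ g, R g = 0) ∧
      (D = 1 → ∃ ψ7 : IrrCharacter G, charDegree (ψ7 : G → ℂ) = 7 ∧
        ∀ g, R g = (ψ7 : G → ℂ) g) := by
  classical
  obtain ⟨n1, n2, n3, n4, n5, n6, n7, n8, n9⟩ := h.distinct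
  obtain ⟨hS1, hS2⟩ := h.sum_theta hP
  obtain ⟨c, hc1, hc2⟩ := Cfsg.Agent.Lib.CT.NormOne.exists_mult_sum hΦ
  obtain ⟨O, hOdef⟩ : ∃ O : Finset (IrrCharacter G), O = Finset.univ.filter
      (fun ψ => ψ ≠ τ ∧ ψ ≠ χ6 ∧ ψ ≠ χ8 ∧ ψ ≠ θ1 ∧ ψ ≠ θ2) := ⟨_, rfl⟩
  have hOmem : ∀ ψ ∈ O, 7 ∣ charDegree (ψ : G → ℂ) := by
    intro ψ hψ
    rw [hOdef] at hψ
    obtain ⟨m1, m2, m3, m4, m5⟩ := (Finset.mem_filter.mp hψ).2
    exact h.out7 hP ψ m1 m2 m3 m4 m5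
  have hOvan : ∀ ψ ∈ O, ∀ u : G, u ∈ P → u ≠ 1 → (ψ : G → ℂ) u = 0 := by
    intro ψ hψ
    rw [hOdef] at hψ
    obtain ⟨m1, m2, m3, m4, m5⟩ := (Finset.mem_filter.mp hψ).2
    exact h.out ψ m1 m2 m3 m4 m5
  have hval : ∀ g, Φ g = c τ + (c χ6 * (χ6 : G → ℂ) g + (c χ8 * (χ8 : G → ℂ) g +
      (c θ1 * (θ1 : G → ℂ) g + (c θ2 * (θ2 : G → ℂ) g +
        ∑ ψ ∈ O, (c ψ : ℂ) * (ψ : G → ℂ) g)))) := by
    intro g
    have h1 := congrFun hc2 g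
    rw [Finset.sum_apply] at h1
    simp only [Pi.smul_apply, smul_eq_mul] at h1
    rw [h1, sum_split5 τ χ6 χ8 θ1 θ2 n1 n2 n3 n4 n5 n6 n7 n8 n9 h.ne, h.hτ g, mul_one, hOdef]
  have hc0 : ∀ ψ ∈ O, c ψ * (charDegree (ψ : G → ℂ) / 7) = 0 → c ψ = 0 := by
    intro ψ hψ h1
    obtain ⟨k, hk⟩ := hOmem ψ hψ
    have hpos := irr_charDegree_pos ψ.2
    rcases Nat.mul_eq_zero.mp h1 with h3 | h3
    · exact h3
    · omega
  have hsumdeg : ∑ ψ ∈ O, (c ψ : ℂ) * (charDegree (ψ : G → ℂ) : ℂ) =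
      ((7 * ∑ ψ ∈ O, c ψ * (charDegree (ψ : G → ℂ) / 7) : ℕ) : ℂ) := by
    push_cast
    rw [Finset.mul_sum]
    apply Finset.sum_congr rfl
    intro ψ hψ
    obtain ⟨k, hk⟩ := hOmem ψ hψ
    rw [hk, Nat.mul_div_cancel_left k (by norm_num)]
    push_cast
    ring
  refine ⟨c, ∑ ψ ∈ O, c ψ * (charDegree (ψ : G → ℂ) / 7),
    fun g => ∑ ψ ∈ O, (c ψ : ℂ) * (ψ : G → ℂ) g, hc1, hval, ?_, ?_, ?_, ?_⟩
  · have h1 := hval 1
    have hsum : ∑ ψ ∈ O, (c ψ : ℂ) * (ψ : G → ℂ) 1 =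
        ∑ ψ ∈ O, (c ψ : ℂ) * (charDegree (ψ : G → ℂ) : ℂ) :=
      Finset.sum_congr rfl fun ψ _ => by rw [apply_one ψ]
    rw [hsum, hsumdeg, apply_one χ6, apply_one χ8, apply_one θ1, apply_one θ2, h.d6, h.d8, h.d1,
      h.d2, ← char_natCast_charDegree hΦ] at h1
    have h2 : (charDegree Φ : ℂ) = ((c τ + 6 * c χ6 + 8 * c χ8 + 3 * c θ1 + 3 * c θ2 +
        7 * ∑ ψ ∈ O, c ψ * (charDegree (ψ : G → ℂ) / 7) : ℕ) : ℂ) := by
      rw [h1]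
      push_cast
      ring
    exact_mod_cast h2
  · have e6 : ∑ w : P, (χ6 : G → ℂ) w = 0 := by
      rw [sumP_of_const hP _ (-1) h.v6, apply_one χ6, h.d6]
      norm_num
    have e8 : ∑ w : P, (χ8 : G → ℂ) w = 14 := by
      rw [sumP_of_const hP _ 1 h.v8, apply_one χ8, h.d8]
      norm_num
    have eO : ∀ ψ ∈ O, ∑ w : P, (ψ : G → ℂ) w = (charDegree (ψ : G → ℂ) : ℂ) := by
      intro ψ hψ
      rw [sumP_of_const hP _ 0 (hOvan ψ hψ), apply_one ψ]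
      ring
    have eτ : ∑ _w : P, (c τ : ℂ) = 7 * c τ := by
      rw [Finset.sum_const, Finset.card_univ, ← Nat.card_eq_fintype_card, hP]
      simp
    have eR : ∑ w : P, ∑ ψ ∈ O, (c ψ : ℂ) * (ψ : G → ℂ) w =
        ((7 * ∑ ψ ∈ O, c ψ * (charDegree (ψ : G → ℂ) / 7) : ℕ) : ℂ) := by
      rw [Finset.sum_comm, ← hsumdeg]
      apply Finset.sum_congr rfl
      intro ψ hψ
      rw [← Finset.mul_sum, eO ψ hψ]
    have e0 : ∑ w : P, Φ w = ∑ w : P, ((c τ : ℂ) + ((c χ6 : ℂ) * (χ6 : G → ℂ) w +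
        ((c χ8 : ℂ) * (χ8 : G → ℂ) w + ((c θ1 : ℂ) * (θ1 : G → ℂ) w +
        ((c θ2 : ℂ) * (θ2 : G → ℂ) w + ∑ ψ ∈ O, (c ψ : ℂ) * (ψ : G → ℂ) w))))) :=
      Finset.sum_congr rfl fun w _ => hval w
    rw [e0]
    simp only [Finset.sum_add_distrib, ← Finset.mul_sum]
    rw [eτ, e6, e8, hS1, hS2, eR]
    push_cast
    ring
  · intro hD g
    apply Finset.sum_eq_zero
    intro ψ hψ
    have h1 : c ψ * (charDegree (ψ : G → ℂ) / 7) = 0 := (Finset.sum_eq_zero_iff.mp hD) ψ hψ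
    rw [hc0 ψ hψ h1]
    simp
  · intro hD
    have hex : ∃ ψ7 ∈ O, c ψ7 * (charDegree (ψ7 : G → ℂ) / 7) ≠ 0 := by
      by_contra hcon
      push Not at hcon
      rw [Finset.sum_eq_zero (fun ψ hψ => hcon ψ hψ)] at hD
      exact absurd hD (by norm_num)
    obtain ⟨ψ7, hψ7, hne⟩ := hex
    rw [← Finset.add_sum_erase O _ hψ7] at hD
    have hle : c ψ7 * (charDegree (ψ7 : G → ℂ) / 7) = 1 ∧
        ∑ ψ ∈ O.erase ψ7, c ψ * (charDegree (ψ : G → ℂ) / 7) = 0 := by omega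
    obtain ⟨k, hk⟩ := hOmem ψ7 hψ7
    have h7a : c ψ7 = 1 := Nat.eq_one_of_mul_eq_one_right hle.1
    have h7b : charDegree (ψ7 : G → ℂ) / 7 = 1 := Nat.eq_one_of_mul_eq_one_left hle.1
    refine ⟨ψ7, by omega, fun g => ?_⟩
    show ∑ ψ ∈ O, (c ψ : ℂ) * (ψ : G → ℂ) g = _
    rw [Finset.sum_eq_single ψ7]
    · rw [h7a]
      simp
    · intro ψ hψ hne'
      have h1 : c ψ * (charDegree (ψ : G → ℂ) / 7) = 0 :=
        (Finset.sum_eq_zero_iff.mp hle.2) ψ (Finset.mem_erase.mpr ⟨hne', hψ⟩)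
      rw [hc0 ψ hψ h1]
      simp
    · intro hn
      exact absurd hψ7 hn

theorem theta_inv [Finite G] (h : Cfg P τ χ6 χ8 θ1 θ2) (hP : Nat.card P = 7) (g : G)
    (hg : ¬ 7 ∣ orderOf g) : (θ1 : G → ℂ) g⁻¹ = (θ1 : G → ℂ) g := by
  obtain ⟨ψ, hψ⟩ : ∃ ψ : IrrCharacter G, ∀ x, (ψ : G → ℂ) x = (θ1 : G → ℂ) x⁻¹ :=
    ⟨⟨fun x => (θ1 : G → ℂ) x⁻¹, Cfsg.Agent.Lib.CT.Ops.isIrrCharacter_inv_arg θ1.2⟩,
      fun x => rfl⟩
  have hd : charDegree (ψ : G → ℂ) = 3 := by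
    apply charDegree_eq_of_apply_one
    rw [hψ 1, inv_one, apply_one θ1, h.d1]
  have e1 := h.dτ
  have e2 := h.d6
  have e3 := h.d8
  have n1 : ψ ≠ τ := fun hh => by rw [hh] at hd; omega
  have n2 : ψ ≠ χ6 := fun hh => by rw [hh] at hd; omega
  have n3 : ψ ≠ χ8 := fun hh => by rw [hh] at hd; omega
  by_cases c1 : ψ = θ1
  · have h1 := hψ g
    rw [c1] at h1
    exact h1.symm
  · by_cases c2 : ψ = θ2
    · have h1 := hψ g
      rw [c2] at h1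
      rw [← h1]
      exact (h.agree g hg).symm
    · have := h.out7 hP ψ n1 n2 n3 c1 c2
      omega

theorem theta_sq [Fintype G] [Fintype (IrrCharacter G)] [Fintype P]
    (h : Cfg P τ χ6 χ8 θ1 θ2) (hP : Nat.card P = 7) (g : G) (hg : ¬ 7 ∣ orderOf g) :
    (θ1 : G → ℂ) g * (θ1 : G → ℂ) g = 1 + (χ8 : G → ℂ) g := by
  have hch := isCharacter_of_irr θ1.2
  have hΘ : IsCharacter G ((θ1 : G → ℂ) * fun x => (θ1 : G → ℂ) x⁻¹) :=
    Cfsg.Agent.Lib.CT.Ops.isCharacter_mul hch (Cfsg.Agent.Lib.CT.Ops.isCharacter_inv_arg hch)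
  obtain ⟨c, D, R, hc, hval, hdeg, -, hD0, -⟩ := h.decomp hP hΘ
  have hdΘ : charDegree ((θ1 : G → ℂ) * fun x => (θ1 : G → ℂ) x⁻¹) = 9 := by
    apply charDegree_eq_of_apply_one
    rw [Pi.mul_apply, inv_one, apply_one θ1, h.d1]
    norm_num
  have hcτ : c τ = 1 := by
    have h1 := hc τ
    rw [classInner] at h1
    have h2 : ∑ x : G, ((θ1 : G → ℂ) * fun x => (θ1 : G → ℂ) x⁻¹) x * conj ((τ : G → ℂ) x) =
        (Nat.card G : ℂ) := by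
      have h3 := irr_sum_mul_inv θ1.2 θ1.2
      rw [if_pos rfl] at h3
      rw [← h3]
      apply Finset.sum_congr rfl
      intro x _
      rw [h.hτ x, Pi.mul_apply]
      simp
    rw [h2, inv_mul_cancel₀ (Nat.cast_ne_zero.mpr Nat.card_pos.ne')] at h1
    exact_mod_cast h1.symm
  rw [hdΘ, hcτ] at hdeg
  have hb8 : c χ8 = 0 ∨ c χ8 = 1 := by omega
  have hD01 : D = 0 ∨ D = 1 := by omega
  have hsol : c χ6 = 0 ∧ c χ8 = 1 ∧ c θ1 = 0 ∧ c θ2 = 0 ∧ D = 0 := by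
    rcases hb8 with hb8 | hb8 <;> rcases hD01 with hD01 | hD01 <;> omega
  obtain ⟨s1, s2, s3, s4, s5⟩ := hsol
  have h1 := hval g
  rw [Pi.mul_apply, h.theta_inv hP g hg, hcτ, s1, s2, s3, s4, hD0 s5 g] at h1
  rw [h1]
  push_cast
  ring

theorem psi_decomp [Fintype G] [Fintype (IrrCharacter G)] [Fintype P]
    (h : Cfg P τ χ6 χ8 θ1 θ2) (hP : Nat.card P = 7) :
    ∃ ψ7 : IrrCharacter G, charDegree (ψ7 : G → ℂ) = 7 ∧ ∀ g, ¬ 7 ∣ orderOf g →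
      (θ1 : G → ℂ) g * (χ6 : G → ℂ) g =
        (χ8 : G → ℂ) g + (θ1 : G → ℂ) g + (ψ7 : G → ℂ) g := by
  have hΨ : IsCharacter G ((θ1 : G → ℂ) * (χ6 : G → ℂ)) :=
    Cfsg.Agent.Lib.CT.Ops.isCharacter_mul (isCharacter_of_irr θ1.2) (isCharacter_of_irr χ6.2)
  obtain ⟨c, D, R, hc, hval, hdeg, hsumP, -, hD1⟩ := h.decomp hP hΨ
  obtain ⟨hS1, hS2⟩ := h.sum_theta hP
  have hdΨ : charDegree ((θ1 : G → ℂ) * (χ6 : G → ℂ)) = 18 := by
    apply charDegree_eq_of_apply_one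
    rw [Pi.mul_apply, apply_one θ1, apply_one χ6, h.d1, h.d6]
    norm_num
  have hcτ : c τ = 0 := by
    have h1 := hc τ
    rw [classInner] at h1
    have h2 : ∑ x : G, ((θ1 : G → ℂ) * (χ6 : G → ℂ)) x * conj ((τ : G → ℂ) x) = 0 := by
      have h3 := irr_sum_mul_inv θ1.2 (Cfsg.Agent.Lib.CT.Ops.isIrrCharacter_inv_arg χ6.2)
      rw [if_neg] at h3
      · rw [← h3]
        apply Finset.sum_congr rfl
        intro x _
        rw [h.hτ x, Pi.mul_apply]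
        simp
      · intro heq
        have h4 := congrFun heq 1
        simp only [inv_one] at h4
        rw [apply_one θ1, apply_one χ6, h.d1, h.d6] at h4
        norm_num at h4
    rw [h2, mul_zero] at h1
    exact_mod_cast h1.symm
  have hsP : ∑ w : P, ((θ1 : G → ℂ) * (χ6 : G → ℂ)) w = 21 := by
    have h1 : ∑ w : P, (θ1 : G → ℂ) w * ((χ6 : G → ℂ) w + 1) =
        (θ1 : G → ℂ) 1 * ((χ6 : G → ℂ) 1 + 1) + 6 * 0 :=
      sumP_of_const hP (fun x => (θ1 : G → ℂ) x * ((χ6 : G → ℂ) x + 1)) 0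
        (fun u hu hu1 => by rw [h.v6 u hu hu1]; ring)
    have h2 : ∑ w : P, ((θ1 : G → ℂ) * (χ6 : G → ℂ)) w =
        ∑ w : P, (θ1 : G → ℂ) w * ((χ6 : G → ℂ) w + 1) - ∑ w : P, (θ1 : G → ℂ) w := by
      rw [← Finset.sum_sub_distrib]
      apply Finset.sum_congr rfl
      intro w _
      rw [Pi.mul_apply]
      ring
    rw [h2, h1, hS1, apply_one θ1, apply_one χ6, h.d1, h.d6]
    norm_num
  rw [hsP, hcτ] at hsumP
  rw [hdΨ, hcτ] at hdeg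
  have hsumP' : 21 = 7 * 0 + 14 * c χ8 + 7 * D := by exact_mod_cast hsumP
  have hsol : c χ6 = 0 ∧ c χ8 = 1 ∧ c θ1 + c θ2 = 1 ∧ D = 1 := by omega
  obtain ⟨s1, s2, s3, s4⟩ := hsol
  obtain ⟨ψ7, hd7, hR⟩ := hD1 s4
  refine ⟨ψ7, hd7, fun g hg => ?_⟩
  have h1 := hval g
  rw [Pi.mul_apply, hcτ, s1, s2, hR g, ← h.agree g hg] at h1
  rw [h1]
  have h5 : ((c θ1 : ℂ) + (c θ2 : ℂ)) = 1 := by exact_mod_cast s3
  push_cast
  linear_combination ((θ1 : G → ℂ) g) * h5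

theorem chi8_zero [Fintype G] [Fintype (IrrCharacter G)] [Fintype P]
    (h : Cfg P τ χ6 χ8 θ1 θ2) (hP : Nat.card P = 7) (ψ7 : IrrCharacter G)
    (hΨ : ∀ g, ¬ 7 ∣ orderOf g → (θ1 : G → ℂ) g * (χ6 : G → ℂ) g =
        (χ8 : G → ℂ) g + (θ1 : G → ℂ) g + (ψ7 : G → ℂ) g)
    (h3rel : ∀ g : G, ¬ 3 ∣ orderOf g → (χ8 : G → ℂ) g = 1 + (ψ7 : G → ℂ) g)
    (hfaith : ∀ g : G, (θ1 : G → ℂ) g = (θ1 : G → ℂ) 1 → g = 1)
    (g : G) (hg7 : ¬ 7 ∣ orderOf g) (hg3 : ¬ 3 ∣ orderOf g) (hg1 : g ≠ 1) :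
    (χ8 : G → ℂ) g = 0 := by
  have e1 := h.theta_sq hP g hg7
  have e2 := h.rel g hg7
  have e3 := hΨ g hg7
  have e4 := h3rel g hg3
  have hne3 : (θ1 : G → ℂ) g - 3 ≠ 0 := by
    intro ht
    apply hg1
    apply hfaith
    rw [apply_one θ1, h.d1]
    push_cast
    linear_combination ht
  have hcubic : ((θ1 : G → ℂ) g - 3) * ((θ1 : G → ℂ) g * (θ1 : G → ℂ) g - 1) = 0 := by
    linear_combination e3 - (θ1 : G → ℂ) g * e2 - e4 + ((θ1 : G → ℂ) g - 2) * e1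
  have h5 := (mul_eq_zero.mp hcubic).resolve_left hne3
  linear_combination h5 - e1

end Cfg

/-- [SEVEN] A simple group of order `21 * 2 ^ b` has `b ≤ 3`. -/
theorem seven {G : Type u} [Group G] [Finite G] [IsSimpleGroup G] (hG : ¬ IsCyclic G) (b : ℕ)
    (hG' : Nat.card G = 7 * 3 * 2 ^ b) : b ≤ 3 := by
  classical
  have hGfin : Fintype G := Fintype.ofFinite G
  have hIf := finite_irrCharacter G
  have hIfin : Fintype (IrrCharacter G) := Fintype.ofFinite _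
  have f7 : Fact (Nat.Prime 7) := ⟨by norm_num⟩
  have f3 : Fact (Nat.Prime 3) := ⟨by norm_num⟩
  have f2 : Fact (Nat.Prime 2) := ⟨Nat.prime_two⟩
  obtain ⟨P⟩ : Nonempty (Sylow 7 G) := inferInstance
  obtain ⟨hcP, τ, χ6, χ8, θ1, θ2, cfg⟩ := exists_cfg hG b hG' P
  have hPfin : Fintype (P : Subgroup G) := Fintype.ofFinite _
  obtain ⟨ψ7, hd7, hΨ⟩ := cfg.psi_decomp hcP
  -- Sylow 3 data
  obtain ⟨P3⟩ : Nonempty (Sylow 3 G) := inferInstance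
  obtain ⟨hcP3, hC3, e3, he3, he31, he3p, -⟩ := Cfsg.Agent.Lib.Helper1.PRQSylow.sylow_data hG
    3 2 7 b (by norm_num) Nat.prime_two (by norm_num) (by norm_num) (by norm_num) (by norm_num)
    (hG'.trans (by norm_num)) P3
  have he32 : e3 = 2 := by
    have h1 : e3 ∣ 2 := he3p
    have h2 := Nat.le_of_dvd (by norm_num) h1
    omega
  rw [he32] at he3
  obtain ⟨X3, Y3, εX3, ε3, pkg3⟩ :=
    Cfsg.Agent.Lib.Helper82.PRQPkg.exists_pkg 3 (by norm_num) P3 hcP3 hC3 2 he3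
  have h3rel := Cfsg.Agent.Lib.Helper82.PRQThree.three_rel (P3 : Subgroup G) hcP3 X3 Y3 εX3 ε3
    pkg3 τ ψ7 χ8 cfg.hτ (by rw [hd7]; norm_num) (by rw [hd7]; norm_num)
    (by rw [cfg.d8]; norm_num) (by rw [cfg.d8, hd7])
  have hnt : ¬ ∀ g : G, (θ1 : G → ℂ) g = 1 := by
    intro hh
    have h1 := hh 1
    rw [apply_one θ1, cfg.d1] at h1
    norm_num at h1
  have hfaith : ∀ g : G, (θ1 : G → ℂ) g = (θ1 : G → ℂ) 1 → g = 1 :=
    fun g hg => faithful_aux hG θ1 hnt g hg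
  -- Sylow 2
  obtain ⟨Q⟩ : Nonempty (Sylow 2 G) := inferInstance
  have hcQ : Nat.card (Q : Subgroup G) = 2 ^ b :=
    Cfsg.Agent.Lib.Helper17.Sylow.card_sylow_subgroup (p := 2) (k := b) (m := 21)
      (by rw [hG']; ring) (by norm_num) Q
  have hQfin : Fintype (Q : Subgroup G) := Fintype.ofFinite _
  obtain ⟨n, hn⟩ := Cfsg.Agent.Lib.CT.PairCount.char_sum_subgroup (isCharacter_of_irr χ8.2)
    (Q : Subgroup G)
  have hsum : ∑ w : (Q : Subgroup G), (χ8 : G → ℂ) w = 8 := by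
    rw [Finset.sum_eq_single (1 : (Q : Subgroup G))]
    · rw [Subgroup.coe_one, apply_one χ8, cfg.d8]
      norm_num
    · intro w _ hw1
      obtain ⟨k, hk⟩ := (IsPGroup.iff_orderOf.mp Q.isPGroup') w
      have hk' : orderOf (w : G) = 2 ^ k := by rw [Subgroup.orderOf_coe, hk]
      apply cfg.chi8_zero hcP ψ7 hΨ h3rel hfaith
      · rw [hk']
        intro hd
        have h1 := Nat.Prime.dvd_of_dvd_pow (by norm_num : Nat.Prime 7) hd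
        have h2 := Nat.le_of_dvd (by norm_num) h1
        omega
      · rw [hk']
        intro hd
        have h1 := Nat.Prime.dvd_of_dvd_pow (by norm_num : Nat.Prime 3) hd
        have h2 := Nat.le_of_dvd (by norm_num) h1
        omega
      · intro h1
        exact hw1 (Subtype.ext h1)
    · intro hh
      exact absurd (Finset.mem_univ _) hh
  rw [hsum, hcQ] at hn
  have h8 : (8 : ℕ) = 2 ^ b * n := by exact_mod_cast hn
  have hdvd : 2 ^ b ∣ 2 ^ 3 := ⟨n, by rw [← h8]; norm_num⟩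
  exact (Nat.pow_dvd_pow_iff_le_right (by norm_num)).mp hdvd

end Cfsg.Agent.Lib.Helper1.PRQSeven
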