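import Mathlib
import Cfsg.Agent.Lib.Helper23.S69Stmt

set_option autoImplicit false

/-! Piece CENTCONJ of S1369: `C_G(h⁻¹ X h) ≤ N` implies `C_G(X) ≤ h N h⁻¹`. -/

namespace Cfsg.Agent.Lib.Helper1.S69CENTCONJ

open Cfsg Cfsg.Agent.Lib.Helper23.S69Stmt

universe u

theorem main : Cfsg.Agent.Lib.Helper23.S69Stmt.CentConj.{u} := by
  intro G _ h X N hN g hg
  rw [Subgroup.mem_map]
  refine ⟨h⁻¹ * g * h, hN ?_, ?_⟩
  · rw [Subgroup.mem_centralizer_iff]
    intro y hy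
    rw [SetLike.mem_coe, Subgroup.mem_map] at hy
    obtain ⟨x, hx, rfl⟩ := hy
    have h1 := Subgroup.mem_centralizer_iff.mp hg x hx
    simp only [MulEquiv.coe_toMonoidHom, MulAut.conj_apply, inv_inv]
    calc h⁻¹ * x * h * (h⁻¹ * g * h) = h⁻¹ * (x * g) * h := by group
      _ = h⁻¹ * (g * x) * h := by rw [h1]
      _ = h⁻¹ * g * h * (h⁻¹ * x * h) := by group
  · simp only [MulEquiv.coe_toMonoidHom, MulAut.conj_apply]
    group

end Cfsg.Agent.Lib.Helper1.S69CENTCONJ
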