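import Mathlib
import Cfsg.Agent.Lib.Helper23.S69Stmt

set_option autoImplicit false

/-! Piece MEET of S1369: two subsets with more than `|G|/2` elements meet. -/

namespace Cfsg.Agent.Lib.Helper1.S69MEET

open Cfsg Cfsg.Agent.Lib.Helper23.S69Stmt

universe u

theorem main : Cfsg.Agent.Lib.Helper23.S69Stmt.Meet.{u} := by
  intro G _ _ S T hS hT
  by_contra h
  rw [Set.not_nonempty_iff_eq_empty] at h
  have hd : Disjoint S T := Set.disjoint_iff_inter_eq_empty.mpr h
  have h1 := Set.ncard_union_eq hd (Set.toFinite S) (Set.toFinite T)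
  have h2 : (S ∪ T).ncard ≤ Nat.card G := Set.ncard_le_card (S ∪ T)
  omega

end Cfsg.Agent.Lib.Helper1.S69MEET
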